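import Mathlib

/-!
No symmetric zero-diagonal matrix over `ZMod 2` of odd size squares to `1`, or squares to the
all-one matrix while fixing it on both sides.
-/

set_option autoImplicit false

namespace Cfsg.Agent.H18.WA

open Matrix

variable {ι : Type*} [Fintype ι] [DecidableEq ι]

lemma trace_eq_one_of_odd (hodd : Odd (Fintype.card ι)) (M N : Matrix ι ι (ZMod 2))
    (hM : ∀ i, M i i = 0) (hN : ∀ i, N i i = 1) : (M + N).trace = 1 := by
  simp only [Matrix.trace, Matrix.diag_apply, Matrix.add_apply, hM, hN, zero_add, Finset.sum_const,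
    Finset.card_univ, nsmul_eq_mul, mul_one]
  exact ZMod.natCast_eq_one_iff_odd.2 hodd

lemma false_of_sq_zero (T : Matrix ι ι (ZMod 2)) (h : T * T = 0) (htr : T.trace = 1) : False := by
  have hn : IsNilpotent T := ⟨2, by rw [pow_two, h]⟩
  have := (Matrix.isNilpotent_trace_of_isNilpotent hn).eq_zero
  rw [htr] at this
  exact one_ne_zero this

/-- A perfect matching on an odd set. -/
theorem false_of_sq_one (hodd : Odd (Fintype.card ι)) (M : Matrix ι ι (ZMod 2))
    (hM : ∀ i, M i i = 0) (h : M * M = 1) : False := by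
  refine false_of_sq_zero (M + 1) ?_ (trace_eq_one_of_odd hodd M 1 hM (fun i => one_apply_eq i))
  rw [add_mul, mul_add, mul_add, h, one_mul, mul_one, one_mul]
  ext i j
  simp only [Matrix.add_apply, Matrix.zero_apply]
  rw [show ∀ a b : ZMod 2, a + b + (b + a) = 0 by decide]

/-- A design with odd valency and odd intersection numbers on an odd set. -/
theorem false_of_sq_all_one (hodd : Odd (Fintype.card ι)) (M : Matrix ι ι (ZMod 2))
    (hM : ∀ i, M i i = 0) (h : ∀ i j, (M * M) i j = 1) (hrow : ∀ i, ∑ j, M i j = 1)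
    (hcol : ∀ j, ∑ i, M i j = 1) : False := by
  set J : Matrix ι ι (ZMod 2) := Matrix.of fun _ _ => 1 with hJ
  have h1 : M * M = J := by ext i j; rw [h i j, hJ, of_apply]
  have h2 : M * J = J := by
    ext i j
    simp [Matrix.mul_apply, hJ, hrow i]
  have h3 : J * M = J := by
    ext i j
    simp [Matrix.mul_apply, hJ, hcol j]
  have h4 : J * J = J := by
    ext i j
    simp [Matrix.mul_apply, hJ, ZMod.natCast_eq_one_iff_odd.2 hodd]
  refine false_of_sq_zero (M + J) ?_ (trace_eq_one_of_odd hodd M J hM (fun i => rfl))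
  rw [add_mul, mul_add, mul_add, h1, h2, h3, h4]
  ext i j
  simp only [Matrix.add_apply, Matrix.zero_apply, CharTwo.add_self_eq_zero]

end Cfsg.Agent.H18.WA
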