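import Cfsg.Agent.H18.WA.Pairs
import Cfsg.Agent.H18.WA.Design
import Cfsg.Agent.H18.Walter.LinMul
import Cfsg.Agent.S0205

/-!
The linear lemma for families of pairs: an irreducible group `H` on an elementary abelian 2-group
`W` with an invariant family of pairs `(Q, V)` (`Q`'s meeting trivially, cyclic transitive action on
`V#` fixing `Q`) has `|W| = 8` and odd order, or exchanges `Q` and `V` for some pair.
-/

set_option autoImplicit false

namespace Cfsg.Agent.H18.WA

variable {W : Type*} [CommGroup W] [Finite W] {H : Subgroup (MulAut W)}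
  {P : Set (Subgroup W × Subgroup W)}

lemma two_dvd_card (hW : ∀ w : W, w * w = 1) {X : Subgroup W} (hX : X ≠ ⊥) : 2 ∣ Nat.card X := by
  obtain ⟨x, hx, hx1⟩ := X.bot_or_exists_ne_one.resolve_left hX
  haveI : Fact (Nat.Prime 2) := ⟨Nat.prime_two⟩
  exact (orderOf_eq_prime (p := 2) (Subtype.ext (by rw [pow_two]; exact hW x) :
    (⟨x, hx⟩ : X) ^ 2 = 1) (fun h => hx1 (congrArg Subtype.val h))) ▸ orderOf_dvd_natCard _

/-- A nontrivial subgroup of an elementary abelian 2-group has odd order minus one. -/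
lemma odd_card_sub_one (hW : ∀ w : W, w * w = 1) {X : Subgroup W} (hX : X ≠ ⊥) :
    Odd (Nat.card X - 1) := by
  obtain ⟨c, hc⟩ := two_dvd_card hW hX
  exact ⟨c - 1, by have := Nat.card_pos (α := X); omega⟩

lemma exists_ne_one {X : Subgroup W} (h : 2 ≤ Nat.card X) : ∃ v ∈ X, v ≠ 1 :=
  X.bot_or_exists_ne_one.resolve_left (fun e => by rw [e, Subgroup.card_bot] at h; omega)

lemma sub_one_mul_sub_one (a : ℕ) {R q : ℕ} (ha : a * (R - 1) = q - 1) (hR : 2 ≤ R) (hq : 2 ≤ q) :
    ∀ b, b * (R - 1) = R * q - 1 → b = a + q := by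
  intro b hb
  refine Nat.eq_of_mul_eq_mul_right (show 0 < R - 1 by omega) ?_
  rw [hb, add_mul, ha]
  have h1 : q * (R - 1) = R * q - q := by rw [Nat.mul_sub, mul_one, Nat.mul_comm]
  have h2 : q ≤ R * q := Nat.le_mul_of_pos_left q (by omega)
  omega

section Family

variable (hW : ∀ w : W, w * w = 1) (hP : IsPairFamily H P)
include hP

lemma eq_of_mem {p p' : Subgroup W × Subgroup W} (hp : p ∈ P) (hp' : p' ∈ P) {w : W} (hw : w ≠ 1)
    (h : w ∈ p.1) (h' : w ∈ p'.1) : p = p' := by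
  by_contra hne
  have h1 : w ∈ p.1 ⊓ p'.1 := ⟨h, h'⟩
  rw [hP.ti p hp p' hp' hne] at h1
  exact hw (Subgroup.mem_bot.1 h1)

/-- A power fixing a point of `V#` is trivial. -/
lemma pow_eq_one {p : Subgroup W × Subgroup W} (hp : p ∈ P) {τ : MulAut W}
    (hfix : ∀ x ∈ p.1, τ x = x)
    (htrans : ∀ v ∈ p.2, v ≠ 1 → ∀ w ∈ p.2, w ≠ 1 → ∃ i : ℕ, (τ ^ i) v = w) {i : ℕ} {v : W}
    (hv : v ∈ p.2) (hv1 : v ≠ 1) (hvi : (τ ^ i) v = v) : τ ^ i = 1 := by
  refine MulEquiv.ext fun w => ?_
  obtain ⟨⟨x, u⟩, rfl⟩ := (prod_bij (hP.compl p hp)).2 w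
  show (τ ^ i) (x.1 * u.1) = x.1 * u.1
  rw [map_mul, pow_fix (hfix x x.2)]
  congr 1
  by_cases hu : u.1 = 1
  · rw [hu, map_one]
  obtain ⟨j, hj⟩ := htrans v hv hv1 u.1 u.2 hu
  rw [← hj]
  calc (τ ^ i) ((τ ^ j) v) = (τ ^ i * τ ^ j) v := rfl
    _ = (τ ^ j * τ ^ i) v := by rw [← pow_add, add_comm, pow_add]
    _ = (τ ^ j) v := congrArg (τ ^ j) hvi

lemma card_sub_one_le_orderOf {p : Subgroup W × Subgroup W} (hp : p ∈ P) {τ : MulAut W}
    (hV : ∀ v ∈ p.2, τ v ∈ p.2)
    (htrans : ∀ v ∈ p.2, v ≠ 1 → ∀ w ∈ p.2, w ≠ 1 → ∃ i : ℕ, (τ ^ i) v = w) :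
    Nat.card p.2 - 1 ≤ orderOf τ := by
  obtain ⟨v, hv, hv1⟩ := exists_ne_one (X := p.2) (le_trans (by norm_num) (hP.four p hp))
  classical
  have := Fintype.ofFinite p.2
  haveI : Finite (MulAut W) := Finite.of_injective _ DFunLike.coe_injective
  let F : Fin (orderOf τ) → {u : p.2 // u ≠ 1} := fun i =>
    ⟨⟨(τ ^ (i : ℕ)) v, pow_mem hV _ hv⟩, fun h => hv1 (by
      have := congrArg Subtype.val h
      simpa using this)⟩
  have hF : Function.Surjective F := by
    rintro ⟨⟨u, hu⟩, hu1⟩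
    obtain ⟨i, hi⟩ := htrans v hv hv1 u hu (fun h => hu1 (Subtype.ext h))
    refine ⟨⟨i % orderOf τ, Nat.mod_lt _ (orderOf_pos τ)⟩, Subtype.ext (Subtype.ext ?_)⟩
    show (τ ^ (i % orderOf τ)) v = u
    rw [pow_mod_orderOf, hi]
  have := Nat.card_le_card_of_surjective F hF
  rwa [Nat.card_fin, Nat.card_eq_fintype_card, Fintype.card_subtype_compl, Fintype.card_subtype_eq,
    ← Nat.card_eq_fintype_card] at this

include hW in
/-- A member stable under a nontrivial power lies in `V`. -/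
lemma le_of_stable {p p' : Subgroup W × Subgroup W} (hp : p ∈ P) (hp' : p' ∈ P) (hne : p ≠ p')
    {τ : MulAut W} (hfix : ∀ x ∈ p.1, τ x = x) (hV : ∀ v ∈ p.2, τ v ∈ p.2)
    (htrans : ∀ v ∈ p.2, v ≠ 1 → ∀ w ∈ p.2, w ≠ 1 → ∃ i : ℕ, (τ ^ i) v = w) {i : ℕ}
    (hi : τ ^ i ≠ 1) (hstab : ∀ w ∈ p'.1, (τ ^ i) w ∈ p'.1) : p'.1 ≤ p.2 := by
  have hmul : ∀ w, (τ ^ i) w * w ∈ p.2 := by
    intro w
    obtain ⟨⟨x, u⟩, rfl⟩ := (prod_bij (hP.compl p hp)).2 w
    show (τ ^ i) (x.1 * u.1) * (x.1 * u.1) ∈ p.2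
    rw [map_mul, pow_fix (hfix x x.2), mul_mul_mul_comm, hW, one_mul]
    exact p.2.mul_mem (pow_mem hV i u.2) u.2
  let D : p'.1 → (p'.1 ⊓ p.2 : Subgroup W) := fun w =>
    ⟨(τ ^ i) w.1 * w.1, p'.1.mul_mem (hstab w w.2) w.2, hmul _⟩
  have hD : Function.Injective D := by
    intro a b hab
    have h1 : (τ ^ i) a.1 * a.1 = (τ ^ i) b.1 * b.1 := congrArg Subtype.val hab
    have h2 : (τ ^ i) (a.1 * b.1) = a.1 * b.1 := by
      rw [map_mul]
      calc (τ ^ i) a.1 * (τ ^ i) b.1
          = (τ ^ i) a.1 * a.1 * ((τ ^ i) b.1 * b.1) * (a.1 * b.1) := by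
            rw [mul_mul_mul_comm ((τ ^ i) a.1) a.1, mul_assoc, hW, mul_one]
        _ = a.1 * b.1 := by rw [h1, hW, one_mul]
    obtain ⟨⟨x, u⟩, hxu⟩ := (prod_bij (hP.compl p hp)).2 (a.1 * b.1)
    have hu : u.1 = 1 := by
      by_contra hu
      refine hi (pow_eq_one hP hp hfix htrans u.2 hu ?_)
      rw [← hxu] at h2
      replace h2 : (τ ^ i) (x.1 * u.1) = x.1 * u.1 := h2
      rw [map_mul, pow_fix (hfix x x.2)] at h2
      exact mul_left_cancel h2
    have h3 : a.1 * b.1 ∈ p.1 ⊓ p'.1 := by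
      refine ⟨?_, p'.1.mul_mem a.2 b.2⟩
      rw [← hxu]
      show x.1 * u.1 ∈ p.1
      rw [hu, mul_one]; exact x.2
    rw [hP.ti p hp p' hp' hne, Subgroup.mem_bot] at h3
    exact Subtype.ext (mul_eq_one_iff_eq_inv.1 h3 |>.trans (inv_eq_of_mul_eq_one_left (hW _)))
  have heq : p'.1 ⊓ p.2 = p'.1 :=
    Subgroup.eq_of_le_of_card_ge inf_le_left (Nat.card_le_card_of_injective D hD)
  rw [← heq]; exact inf_le_right

end Family

/-- The case of a transitive family covering every point. -/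
lemma spread (hW : ∀ w : W, w * w = 1) (hP : IsPairFamily H P) {p₀ : Subgroup W × Subgroup W}
    (hp₀ : p₀ ∈ P)
    (htr : ∀ p ∈ P, ∃ φ ∈ H, p = (p₀.1.map φ.toMonoidHom, p₀.2.map φ.toMonoidHom))
    (hcov : ∀ w : W, w ≠ 1 → ∃ p ∈ P, w ∈ p.1) (hodd : Odd (Nat.card P)) :
    Nat.card p₀.1 = 2 ∧ Odd (Nat.card H) := by
  classical
  have := Fintype.ofFinite W
  have : Fintype ↥P := Fintype.ofFinite _
  haveI : Finite (MulAut W) := Finite.of_injective _ DFunLike.coe_injective
  set R := Nat.card p₀.1 with hR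
  set q := Nat.card p₀.2 with hq
  have hcard : ∀ p : ↥P, Nat.card p.1.1 = R ∧ Nat.card p.1.2 = q := by
    intro p
    obtain ⟨φ, -, he⟩ := htr p p.2
    rw [he]
    exact ⟨Subgroup.card_map_of_injective φ.injective, Subgroup.card_map_of_injective φ.injective⟩
  have hR2 : 2 ≤ R := by
    have := Nat.le_of_dvd Nat.card_pos (two_dvd_card hW (hP.ne_bot p₀ hp₀))
    omega
  have hq4 : 4 ≤ q := hP.four _ hp₀
  have hWc : Nat.card W = R * q := card_mul (hP.compl _ hp₀)
  -- counting the members inside a subgroup they cover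
  have hcount : ∀ (X : Subgroup W) (s : Finset ↥P), (∀ d ∈ s, d.1.1 ≤ X) →
      (∀ w ∈ X, w ≠ 1 → ∃ d ∈ s, w ∈ d.1.1) → s.card * (R - 1) = Nat.card X - 1 := by
    intro X s hs hcv
    have e1 : ∀ Y : Subgroup W, ((Finset.univ.filter (· ∈ Y)).erase (1 : W)).card = Nat.card Y - 1 := by
      intro Y
      rw [Finset.card_erase_of_mem (Finset.mem_filter.2 ⟨Finset.mem_univ _, Y.one_mem⟩),
        Nat.card_eq_fintype_card, Fintype.card_subtype]
    have e2 : (Finset.univ.filter (· ∈ X)).erase (1 : W) =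
        s.biUnion (fun d => (Finset.univ.filter (· ∈ d.1.1)).erase (1 : W)) := by
      ext w
      simp only [Finset.mem_erase, Finset.mem_filter, Finset.mem_univ, true_and, Finset.mem_biUnion]
      exact ⟨fun ⟨h1, h2⟩ => (hcv w h2 h1).imp fun d hd => ⟨hd.1, h1, hd.2⟩,
        fun ⟨d, hd, h1, h2⟩ => ⟨h1, hs d hd h2⟩⟩
    rw [← e1 X, e2, Finset.card_biUnion, Finset.sum_congr rfl (fun d _ => (e1 d.1.1).trans
      (by rw [(hcard d).1])), Finset.sum_const, smul_eq_mul]
    intro d _ d' _ hdd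
    rw [Function.onFun, Finset.disjoint_left]
    intro w hw hw'
    simp only [Finset.mem_erase, Finset.mem_filter, Finset.mem_univ, true_and] at hw hw'
    exact hdd (Subtype.ext (eq_of_mem hP d.2 d'.2 hw.1 hw.2 hw'.2))
  have hbR : Fintype.card ↥P * (R - 1) = R * q - 1 := by
    have := hcount ⊤ Finset.univ (fun d _ => le_top) (fun w _ hw => by
      obtain ⟨p, hp, hwp⟩ := hcov w hw
      exact ⟨⟨p, hp⟩, Finset.mem_univ _, hwp⟩)
    rwa [Subgroup.card_top, hWc, Finset.card_univ] at this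
  have hbodd : Odd (Fintype.card ↥P) := by rwa [← Nat.card_eq_fintype_card]
  -- the action
  let mv : H → ↥P → ↥P := fun φ d =>
    ⟨(d.1.1.map φ.1.toMonoidHom, d.1.2.map φ.1.toMonoidHom), hP.inv φ.1 φ.2 d.1 d.2⟩
  have hmv_inj : ∀ φ : H, Function.Injective (mv φ) := fun φ a b h =>
    Subtype.ext (map_injOn φ.1 (congrArg Subtype.val h))
  have hmv_mul : ∀ φ ψ : H, ∀ d, mv (φ * ψ) d = mv φ (mv ψ d) := fun φ ψ d =>
    Subtype.ext (Prod.ext (by simp only [mv, Subgroup.map_map]; rfl)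
      (by simp only [mv, Subgroup.map_map]; rfl))
  have hmv_eq : ∀ φ : H, ∀ d d' : ↥P, ∀ x ∈ d.1.1, x ≠ 1 → φ.1 x ∈ d'.1.1 → mv φ d = d' :=
    fun φ d d' x hx hx1 hx' => Subtype.ext (eq_of_mem hP (mv φ d).2 d'.2
      (fun h => hx1 (φ.1.injective (h.trans (map_one φ.1).symm))) ⟨x, hx, rfl⟩ hx')
  have hexQ : ∀ d : ↥P, ∃ x ∈ d.1.1, x ≠ 1 := fun d => exists_ne_one (by rw [(hcard d).1]; exact hR2)
  let rel : ↥P → ↥P → Prop := fun a b => b.1.1 ≤ a.1.2
  have hrel_mv : ∀ φ : H, ∀ a b, rel (mv φ a) (mv φ b) ↔ rel a b := fun φ a b =>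
    Subgroup.map_le_map_iff_of_injective φ.1.injective
  have hirrefl : ∀ a, ¬ rel a a := fun a h => hP.ne_bot a a.2
    (disjoint_self.1 ((hP.compl a a.2).disjoint.mono_right h))
  choose τ hτH hfix hV htrans using fun a : ↥P => hP.cyc a.1 a.2
  let T : ↥P → H := fun a => ⟨τ a, hτH a⟩
  have hTfix : ∀ a i, mv (T a ^ i) a = a := by
    intro a i
    obtain ⟨x, hx, hx1⟩ := hexQ a
    exact hmv_eq _ a a x hx hx1 (by
      rw [SubmonoidClass.coe_pow]
      show (τ a ^ i) x ∈ a.1.1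
      rw [pow_fix (hfix a x hx)]; exact hx)
  -- free orbits outside `V`
  let out : ↥P → Finset ↥P := fun a => Finset.univ.filter fun b => b ≠ a ∧ ¬ rel a b
  have hout_mv : ∀ a i b, b ∈ out a → mv (T a ^ i) b ∈ out a := by
    intro a i b hb
    simp only [out, Finset.mem_filter, Finset.mem_univ, true_and] at hb ⊢
    refine ⟨fun h => hb.1 (hmv_inj (T a ^ i) (h.trans (hTfix a i).symm)), fun h => hb.2 ?_⟩
    refine (hrel_mv (T a ^ i) a b).1 ?_
    rw [hTfix]; exact h
  have hord : ∀ a, q - 1 ≤ orderOf (τ a) := fun a => by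
    have := card_sub_one_le_orderOf hP a.2 (hV a) (htrans a)
    rwa [(hcard a).2] at this
  have hordpos : ∀ a, 0 < orderOf (τ a) := fun a => orderOf_pos _
  let orb : ↥P → ↥P → Finset ↥P := fun a b =>
    (Finset.range (orderOf (τ a))).image fun i => mv (T a ^ i) b
  have horb_card : ∀ a, ∀ b ∈ out a, (orb a b).card = orderOf (τ a) := by
    intro a b hb
    suffices key : ∀ i j, i < j → j < orderOf (τ a) → mv (T a ^ i) b ≠ mv (T a ^ j) b by
      rw [Finset.card_image_of_injOn, Finset.card_range]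
      intro i hi j hj hij
      simp only [Finset.coe_range, Set.mem_Iio] at hi hj
      rcases lt_trichotomy i j with h | h | h
      · exact absurd hij (key i j h hj)
      · exact h
      · exact absurd hij.symm (key j i h hi)
    intro i j hlt hj hij
    have h1 : mv (T a ^ (j - i)) b = b := by
      apply hmv_inj (T a ^ i)
      rw [← hmv_mul, ← pow_add, Nat.add_sub_cancel' hlt.le]
      exact hij.symm
    simp only [out, Finset.mem_filter, Finset.mem_univ, true_and] at hb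
    refine hb.2 (le_of_stable hW hP a.2 b.2 (fun h => hb.1 (Subtype.ext h).symm) (hfix a) (hV a)
      (htrans a) (i := j - i) (pow_ne_one_of_lt_orderOf (by omega) (by omega)) fun w hw => ?_)
    have h2 : (mv (T a ^ (j - i)) b).1.1 = b.1.1 := by rw [h1]
    rw [← h2]
    exact ⟨w, hw, by show ((T a ^ (j - i) : H) : MulAut W) w = _; rw [SubmonoidClass.coe_pow]⟩
  have horb_sub : ∀ a, ∀ b ∈ out a, orb a b ⊆ out a := by
    intro a b hb c hc
    obtain ⟨i, -, rfl⟩ := Finset.mem_image.1 hc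
    exact hout_mv a i b hb
  have horb_self : ∀ a, ∀ b, b ∈ orb a b := fun a b => Finset.mem_image.2 ⟨0,
    Finset.mem_range.2 (hordpos a), Subtype.ext (Prod.ext (by
      show b.1.1.map ((T a ^ 0 : H) : MulAut W).toMonoidHom = b.1.1
      rw [pow_zero]; exact Subgroup.map_id _) (by
      show b.1.2.map ((T a ^ 0 : H) : MulAut W).toMonoidHom = b.1.2
      rw [pow_zero]; exact Subgroup.map_id _))⟩
  have horb_eq : ∀ a b c, c ∈ orb a b → orb a c = orb a b := by
    intro a b c hc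
    obtain ⟨i, -, rfl⟩ := Finset.mem_image.1 hc
    have hord' : orderOf (T a) = orderOf (τ a) := by rw [← Subgroup.orderOf_coe]
    have hshift : ∀ j, mv (T a ^ j) (mv (T a ^ i) b) ∈ orb a b := fun j => Finset.mem_image.2
      ⟨(j + i) % orderOf (τ a), Finset.mem_range.2 (Nat.mod_lt _ (hordpos a)), by
        rw [← hord', pow_mod_orderOf, pow_add, hmv_mul]⟩
    ext d
    constructor
    · intro hd
      obtain ⟨j, -, rfl⟩ := Finset.mem_image.1 hd
      exact hshift j
    · intro hd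
      obtain ⟨j, -, rfl⟩ := Finset.mem_image.1 hd
      refine Finset.mem_image.2 ⟨(j + (orderOf (τ a) - i % orderOf (τ a))) % orderOf (τ a),
        Finset.mem_range.2 (Nat.mod_lt _ (hordpos a)), ?_⟩
      rw [← hmv_mul, ← hord', pow_mod_orderOf, ← pow_add]
      congr 1
      rw [← pow_mod_orderOf, ← pow_mod_orderOf (T a) j]
      congr 1
      have h1 := Nat.mod_add_div i (orderOf (T a))
      have h2 : i % orderOf (T a) < orderOf (T a) := Nat.mod_lt _ (orderOf_pos _)
      rw [show j + (orderOf (T a) - i % orderOf (T a)) + i =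
        j + (1 + i / orderOf (T a)) * orderOf (T a) by rw [add_mul, one_mul, mul_comm (i / _)]; omega,
        Nat.add_mul_mod_self_right]
  -- some member lies in each `V`, or `R = 2`
  have hinside : 3 ≤ R → ∀ a, ∃ b, rel a b := by
    intro hR3 a
    by_contra hc
    push Not at hc
    have hout : out a = Finset.univ.erase a := by ext b; simp [out, hc b]
    set N := orderOf (τ a)
    have hdiv : (out a).card = ((out a).image (orb a)).card * N := by
      rw [Finset.card_eq_sum_card_image (orb a) (out a), Finset.sum_const_nat]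
      intro o ho
      obtain ⟨b, hb, rfl⟩ := Finset.mem_image.1 ho
      rw [show N = (orb a b).card from (horb_card a b hb).symm]
      congr 1
      ext c
      simp only [Finset.mem_filter]
      exact ⟨fun h => h.2 ▸ horb_self a c, fun h => ⟨horb_sub a b hb h, horb_eq a b c h⟩⟩
    set m := ((out a).image (orb a)).card
    rw [hout, Finset.card_erase_of_mem (Finset.mem_univ _), Finset.card_univ] at hdiv
    have hb1 : (Fintype.card ↥P - 1) * (R - 1) = R * (q - 1) := by
      rw [Nat.sub_mul, hbR, one_mul, Nat.mul_sub, mul_one]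
      have : R ≤ R * q := Nat.le_mul_of_pos_right R (by omega)
      omega
    have hN : N = q - 1 := by
      refine le_antisymm ?_ (hord a)
      obtain ⟨v, hv, hv1⟩ := exists_ne_one (X := a.1.2) (by rw [(hcard a).2]; omega)
      have hinj : Function.Injective (fun i : Fin N => (⟨⟨(τ a ^ (i : ℕ)) v, pow_mem (hV a) _ hv⟩,
          fun h => hv1 (by have := congrArg Subtype.val h; simpa using this)⟩ :
          {u : a.1.2 // u ≠ 1})) := by
        intro i j hij
        have hij' : (τ a ^ (i : ℕ)) v = (τ a ^ (j : ℕ)) v :=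
          congrArg (fun u : {u : a.1.2 // u ≠ 1} => u.1.1) hij
        by_contra hne
        wlog hlt : (i : ℕ) < j generalizing i j with H'
        · exact H' hij.symm hij'.symm (Ne.symm hne) (by
            have : (i : ℕ) ≠ j := fun e => hne (Fin.ext e)
            omega)
        have h1 : (τ a ^ ((j : ℕ) - i)) v = v := by
          apply (τ a ^ (i : ℕ)).injective
          rw [hij']
          show (τ a ^ (i : ℕ) * τ a ^ ((j : ℕ) - i)) v = _
          rw [← pow_add, Nat.add_sub_cancel' hlt.le]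
        exact pow_ne_one_of_lt_orderOf (by omega) (by have := j.2; omega)
          (pow_eq_one hP a.2 (hfix a) (htrans a) hv hv1 h1)
      have h2 := Nat.card_le_card_of_injective _ hinj
      have := Fintype.ofFinite a.1.2
      rwa [Nat.card_fin, Nat.card_eq_fintype_card, Fintype.card_subtype_compl,
        Fintype.card_subtype_eq, ← Nat.card_eq_fintype_card, (hcard a).2] at h2
    rw [hdiv, hN, mul_right_comm] at hb1
    have hk : m * (R - 1) = R := Nat.eq_of_mul_eq_mul_right (show 0 < q - 1 by omega) hb1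
    rcases Nat.lt_or_ge m 2 with hm | hm
    · rcases (show m = 0 ∨ m = 1 by omega) with h | h <;> rw [h] at hk <;> omega
    · have : 2 * (R - 1) ≤ m * (R - 1) := Nat.mul_le_mul_right _ hm
      omega
  have hfullV : ∀ a : ↥P, ∀ v ∈ a.1.2, v ≠ 1 → ∃ b, rel a b ∧ v ∈ b.1.1 := by
    intro a v hv hv1
    rcases Nat.lt_or_ge R 3 with h | hR3
    · obtain ⟨p, hp, hvp⟩ := hcov v hv1
      refine ⟨⟨p, hp⟩, fun w hw => ?_, hvp⟩
      by_cases hw1 : w = 1
      · exact hw1 ▸ one_mem _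
      have hc : Nat.card p.1 = 2 := by
        have h' : Nat.card p.1 = R := (hcard ⟨p, hp⟩).1
        omega
      rw [(Subgroup.eq_of_le_of_card_ge (show Subgroup.zpowers v ≤ p.1 by simpa using hvp) (by
        haveI : Fact (Nat.Prime 2) := ⟨Nat.prime_two⟩
        rw [hc, Nat.card_zpowers, orderOf_eq_prime (by rw [pow_two]; exact hW v) hv1])).symm] at hw
      exact (show Subgroup.zpowers v ≤ a.1.2 by simpa using hv) hw
    · obtain ⟨b, hb⟩ := hinside hR3 a
      obtain ⟨u, hu, hu1⟩ := hexQ b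
      obtain ⟨i, hi⟩ := htrans a u (hb hu) hu1 v hv hv1
      refine ⟨mv (T a ^ i) b, ?_, ⟨u, hu, ?_⟩⟩
      · have := (hrel_mv (T a ^ i) a b).2 hb
        rwa [hTfix] at this
      · show ((T a ^ i : H) : MulAut W) u = v
        rw [SubmonoidClass.coe_pow]; exact hi
  let inS : ↥P → Finset ↥P := fun a => Finset.univ.filter fun b => rel a b
  have hk : ∀ a, (inS a).card * (R - 1) = q - 1 := by
    intro a
    rw [← (hcard a).2]
    refine hcount a.1.2 _ (fun d hd => (Finset.mem_filter.1 hd).2) fun w hw hw1 => ?_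
    obtain ⟨b, hb, hwb⟩ := hfullV a w hw hw1
    exact ⟨b, Finset.mem_filter.2 ⟨Finset.mem_univ _, hb⟩, hwb⟩
  have hout_card : ∀ a, (out a).card = q - 1 := by
    intro a
    have hb := sub_one_mul_sub_one _ (hk a) hR2 (by omega) _ hbR
    have hsplit : Finset.univ.erase a = out a ∪ inS a := by
      ext b
      simp only [Finset.mem_erase, Finset.mem_univ, and_true, Finset.mem_union, out, inS,
        Finset.mem_filter, true_and]
      constructor
      · intro h; by_cases hr : rel a b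
        · exact Or.inr hr
        · exact Or.inl ⟨h, hr⟩
      · rintro (h | h) he
        · exact h.1 he
        · exact hirrefl a (he ▸ h)
    have hdisj : Disjoint (out a) (inS a) := Finset.disjoint_left.2 fun b hb hb' =>
      (Finset.mem_filter.1 hb).2.2 (Finset.mem_filter.1 hb').2
    have h1 := congrArg Finset.card hsplit
    rw [Finset.card_union_of_disjoint hdisj, Finset.card_erase_of_mem (Finset.mem_univ _),
      Finset.card_univ, hb] at h1
    omega
  have hout_orb : ∀ a, ∀ b ∈ out a, orb a b = out a := fun a b hb =>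
    Finset.eq_of_subset_of_card_le (horb_sub a b hb) (by
      rw [hout_card, horb_card a b hb]; exact hord a)
  -- the converse relation
  let inT : ↥P → Finset ↥P := fun a => Finset.univ.filter fun b => rel b a
  have hinT_orb : ∀ a b, b ∈ out a → b ∈ inT a → out a ⊆ inT a := by
    intro a b hb hbT c hc
    rw [← hout_orb a b hb] at hc
    obtain ⟨i, -, rfl⟩ := Finset.mem_image.1 hc
    refine Finset.mem_filter.2 ⟨Finset.mem_univ _, ?_⟩
    have := (hrel_mv (T a ^ i) b a).2 (Finset.mem_filter.1 hbT).2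
    rwa [hTfix a i] at this
  have hTconst : ∀ a b, (inT a).card = (inT b).card := by
    intro a b
    obtain ⟨φ, hφ, ha⟩ := htr a a.2
    obtain ⟨ψ, hψ, hb⟩ := htr b b.2
    let χ : H := ⟨ψ, hψ⟩ * ⟨φ, hφ⟩⁻¹
    have hχ : mv χ a = b := by
      obtain ⟨x, hx, hx1⟩ := hexQ ⟨p₀, hp₀⟩
      refine hmv_eq χ a b (φ x) (by rw [ha]; exact ⟨x, hx, rfl⟩)
        (fun h => hx1 (φ.injective (h.trans (map_one φ).symm))) ?_
      show (ψ * φ⁻¹) (φ x) ∈ b.1.1
      rw [hb]
      exact ⟨x, hx, congrArg ψ (φ.symm_apply_apply x).symm⟩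
    refine Finset.card_bij (fun c _ => mv χ c) ?_ (fun c _ c' _ h => hmv_inj χ h) ?_
    · intro c hc
      refine Finset.mem_filter.2 ⟨Finset.mem_univ _, ?_⟩
      rw [← hχ]
      exact (hrel_mv χ c a).2 (Finset.mem_filter.1 hc).2
    · intro c hc
      obtain ⟨c', rfl⟩ := (Finite.injective_iff_surjective.1 (hmv_inj χ)) c
      refine ⟨c', Finset.mem_filter.2 ⟨Finset.mem_univ _, (hrel_mv χ c' a).1 ?_⟩, rfl⟩
      rw [hχ]; exact (Finset.mem_filter.1 hc).2
  let a0 : ↥P := ⟨p₀, hp₀⟩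
  set k := (inS a0).card with hkdef
  have hkconst : ∀ a, (inS a).card = k := fun a =>
    Nat.eq_of_mul_eq_mul_right (show 0 < R - 1 by omega) ((hk a).trans (hk a0).symm)
  have hkT : ∀ a, (inT a).card = k := by
    intro a
    have h1 : ∑ c, (inS c).card = ∑ c, (inT c).card := by
      simp only [inS, inT, Finset.card_filter]
      rw [Finset.sum_comm]
    rw [Finset.sum_congr rfl (fun c _ => hkconst c), Finset.sum_congr rfl (fun c _ => hTconst c a),
      Finset.sum_const, Finset.sum_const, smul_eq_mul, smul_eq_mul] at h1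
    exact (Nat.eq_of_mul_eq_mul_left (Finset.card_univ (α := ↥P) ▸ Fintype.card_pos_iff.2 ⟨a⟩)
      h1).symm
  have hkodd : Odd k := by
    have h1 : Odd (q - 1) := odd_card_sub_one hW (X := p₀.2)
      (fun e => by rw [hq, e, Subgroup.card_bot] at hq4; omega)
    rw [← hk a0] at h1
    exact (Nat.odd_mul.1 h1).1
  have hcast : ∀ m : ℕ, Odd m → (m : ZMod 2) = 1 := fun m hm => ZMod.natCast_eq_one_iff_odd.2 hm
  -- no symmetrical relation
  have hnosym : (∀ a b, rel a b → rel b a) → False := by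
    intro hsym
    let M : Matrix ↥P ↥P (ZMod 2) := Matrix.of fun a b => if rel a b then 1 else 0
    have hM : ∀ a, M a a = 0 := fun a => if_neg (hirrefl a)
    let nb : ↥P → ↥P → Finset ↥P := fun a c => Finset.univ.filter fun d => rel a d ∧ rel d c
    have hMM : ∀ a c, (M * M) a c = ((nb a c).card : ℕ) := by
      intro a c
      rw [Matrix.mul_apply]
      simp only [M, Matrix.of_apply, nb, ← ite_and, mul_ite, mul_one, mul_zero]
      rw [Finset.sum_boole]
      congr 2
      ext d; simp [and_comm]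
    have hnb : ∀ a c, nb a c = Finset.univ.filter fun d => d.1.1 ≤ a.1.2 ⊓ c.1.2 := by
      intro a c
      ext d
      simp only [nb, Finset.mem_filter, Finset.mem_univ, true_and, le_inf_iff]
      exact and_congr_right fun _ => ⟨hsym d c, hsym c d⟩
    have hrow : ∀ a, ∑ b, M a b = 1 := fun a => by
      show (∑ b, if rel a b then (1 : ZMod 2) else 0) = 1
      rw [Finset.sum_boole]
      exact hcast _ (hkconst a ▸ hkodd)
    have hcol : ∀ b, ∑ a, M a b = 1 := fun b => by
      show (∑ a, if rel a b then (1 : ZMod 2) else 0) = 1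
      rw [Finset.sum_boole]
      exact hcast _ (hkT b ▸ hkodd)
    rcases Nat.lt_or_ge k 2 with hk2 | hk2
    · have hk1 : k = 1 := by obtain ⟨c, hc⟩ := hkodd; omega
      refine false_of_sq_one hbodd M hM (Matrix.ext fun a c => ?_)
      rw [hMM, hnb]
      by_cases hac : a = c
      · subst hac
        rw [Matrix.one_apply_eq]
        simp only [inf_idem]
        exact hcast _ (hkconst a ▸ hkodd)
      · rw [Matrix.one_apply_ne hac, Finset.filter_eq_empty_iff.2 fun d _ hd => hac ?_,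
          Finset.card_empty, Nat.cast_zero]
        obtain ⟨h1, h2⟩ := le_inf_iff.1 hd
        have hone := (hkT d).trans hk1
        exact Finset.card_le_one.1 hone.le a (Finset.mem_filter.2 ⟨Finset.mem_univ _, h1⟩) c
          (Finset.mem_filter.2 ⟨Finset.mem_univ _, h2⟩)
    · refine false_of_sq_all_one hbodd M hM (fun a c => ?_) hrow hcol
      rw [hMM, hnb]
      have hne : (a.1.2 ⊓ c.1.2 : Subgroup W) ≠ ⊥ := by
        intro h0
        have h1 := Nat.card_le_card_of_injective (fun p : a.1.2 × c.1.2 => (p.1 : W) * p.2)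
          (Subgroup.mul_injective_of_disjoint (disjoint_iff.2 h0))
        rw [Nat.card_prod, (hcard a).2, (hcard c).2, hWc] at h1
        have hle : q ≤ R := Nat.le_of_mul_le_mul_right h1 (by omega)
        have h2 : k * (R - 1) = q - 1 := hk a0
        have h3 : 2 * (R - 1) ≤ k * (R - 1) := Nat.mul_le_mul_right _ hk2
        omega
      have hc := hcount (a.1.2 ⊓ c.1.2) (Finset.univ.filter fun d => d.1.1 ≤ a.1.2 ⊓ c.1.2)
        (fun d hd => (Finset.mem_filter.1 hd).2) (fun w hw hw1 => by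
          obtain ⟨b, hb, hwb⟩ := hfullV a w hw.1 hw1
          obtain ⟨b', hb', hwb'⟩ := hfullV c w hw.2 hw1
          obtain rfl : b = b' := Subtype.ext (eq_of_mem hP b.2 b'.2 hw1 hwb hwb')
          exact ⟨b, Finset.mem_filter.2 ⟨Finset.mem_univ _, le_inf hb hb'⟩, hwb⟩)
      have ho := odd_card_sub_one hW hne
      rw [← hc] at ho
      exact hcast _ (Nat.odd_mul.1 ho).1
  have hsubcases : ∀ a, inT a = inS a ∨ inT a = out a := by
    intro a
    by_cases h : ∃ b ∈ out a, b ∈ inT a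
    · obtain ⟨b, hb, hbT⟩ := h
      refine Or.inr (Finset.eq_of_subset_of_card_le (hinT_orb a b hb hbT) ?_).symm
      rw [hkT, hout_card, ← hk a0]
      exact Nat.le_mul_of_pos_right _ (by omega)
    · push Not at h
      refine Or.inl (Finset.eq_of_subset_of_card_le (fun b hb => ?_) (by rw [hkT, hkconst]))
      by_contra hc
      refine h b ?_ hb
      simp only [out, inS, Finset.mem_filter, Finset.mem_univ, true_and] at hc ⊢
      exact ⟨fun e => hirrefl a (e ▸ (Finset.mem_filter.1 hb).2), hc⟩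
  have hSne : ∀ a, inS a ≠ out a := fun a e => by
    obtain ⟨b, hb⟩ : (inS a).Nonempty := by
      rw [← Finset.card_pos, hkconst]; exact hkodd.pos
    exact (Finset.mem_filter.1 (e ▸ hb)).2.2 (Finset.mem_filter.1 hb).2
  by_cases hsymm : ∀ a, inT a = inS a
  · refine (hnosym fun a b h => ?_).elim
    exact (Finset.mem_filter.1 (show b ∈ inT a by
      rw [hsymm a]; exact Finset.mem_filter.2 ⟨Finset.mem_univ _, h⟩)).2
  push Not at hsymm
  obtain ⟨a1, ha1⟩ := hsymm
  have ha1' := (hsubcases a1).resolve_left ha1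
  have hq1 : k = q - 1 := by rw [← hkT a1, ha1', hout_card]
  have hR2' : R = 2 := by
    have h := hk a0
    rw [← hkdef, hq1] at h
    have := Nat.eq_of_mul_eq_mul_left (show 0 < q - 1 by omega) (h.trans (mul_one _).symm)
    omega
  refine ⟨hR2', ?_⟩
  -- a tournament: no involution
  have houtT : ∀ a, inT a = out a := by
    intro a
    rcases hsubcases a with h | h
    · exfalso
      obtain ⟨φ, hφ, he⟩ := htr a a.2
      obtain ⟨ψ, hψ, he1⟩ := htr a1 a1.2
      let χ : H := ⟨ψ, hψ⟩ * ⟨φ, hφ⟩⁻¹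
      have hχ : mv χ a = a1 := by
        obtain ⟨x, hx, hx1⟩ := hexQ ⟨p₀, hp₀⟩
        refine hmv_eq χ a a1 (φ x) (by rw [he]; exact ⟨x, hx, rfl⟩)
          (fun h => hx1 (φ.injective (h.trans (map_one φ).symm))) ?_
        show (ψ * φ⁻¹) (φ x) ∈ a1.1.1
        rw [he1]
        exact ⟨x, hx, congrArg ψ (φ.symm_apply_apply x).symm⟩
      refine ha1 (Finset.ext fun c => ?_)
      obtain ⟨c', rfl⟩ := (Finite.injective_iff_surjective.1 (hmv_inj χ)) c
      simp only [inT, inS, Finset.mem_filter, Finset.mem_univ, true_and]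
      rw [← hχ, hrel_mv, hrel_mv]
      have := Finset.ext_iff.1 h c'
      simpa [inT, inS] using this
    · exact h
  rw [Nat.odd_iff]
  by_contra hev
  obtain ⟨g, hg⟩ := exists_prime_orderOf_dvd_card' (G := H) 2 (by omega : 2 ∣ Nat.card H)
  have hg1 : g.1 ≠ 1 := fun h => by
    rw [show g = 1 from Subtype.ext h, orderOf_one] at hg; omega
  obtain ⟨w, hw⟩ : ∃ w, g.1 w ≠ w := by
    by_contra hc
    push Not at hc
    exact hg1 (MulEquiv.ext hc)
  have hw1 : w ≠ 1 := fun h => hw (by rw [h, map_one])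
  obtain ⟨pa, hpa, hwa⟩ := hcov w hw1
  set a : ↥P := ⟨pa, hpa⟩
  set b := mv g a with hb
  have hgg : g * g = 1 := by rw [← pow_two, ← hg, pow_orderOf_eq_one]
  have hba : mv g b = a := by
    rw [hb, ← hmv_mul, hgg]
    exact Subtype.ext (Prod.ext (Subgroup.map_id _) (Subgroup.map_id _))
  have hne : b ≠ a := by
    intro he
    have hmem : g.1 w ∈ a.1.1 := by rw [← he]; exact ⟨w, hwa, rfl⟩
    haveI : Fact (Nat.Prime 2) := ⟨Nat.prime_two⟩
    have hz : Subgroup.zpowers w = a.1.1 := Subgroup.eq_of_le_of_card_ge (by simpa using hwa) (by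
      rw [(hcard a).1, hR2', Nat.card_zpowers, orderOf_eq_prime (by rw [pow_two]; exact hW w) hw1])
    rw [← hz] at hmem
    obtain ⟨i, hi⟩ := Subgroup.mem_zpowers_iff.1 hmem
    rw [← zpow_mod_orderOf, orderOf_eq_prime (p := 2) (by rw [pow_two]; exact hW w) hw1] at hi
    rcases Int.emod_two_eq_zero_or_one i with h | h <;> simp [h] at hi
    · exact hw1 (g.1.injective (hi.symm.trans (map_one g.1).symm))
    · exact hw hi.symm
  have hiff : rel a b ↔ rel b a := by
    constructor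
    · intro h
      have := (hrel_mv g a b).2 h
      rwa [hba, ← hb] at this
    · intro h
      have := (hrel_mv g b a).2 h
      rwa [hba, ← hb] at this
  have h1 := Finset.ext_iff.1 (houtT a) b
  simp only [inT, out, Finset.mem_filter, Finset.mem_univ, true_and] at h1
  tauto

/-- **The linear lemma for families of pairs.** -/
theorem eight_or_swap (hW : ∀ w : W, w * w = 1) (hP : IsPairFamily H P) (hne : P.Nonempty)
    (hirr : ∀ X : Subgroup W, (∀ φ ∈ H, ∀ x ∈ X, φ x ∈ X) → X = ⊥ ∨ X = ⊤) :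
    (Nat.card W = 8 ∧ Odd (Nat.card H)) ∨ ∃ p ∈ P, (p.2, p.1) ∈ P := by
  classical
  haveI : Finite (MulAut W) := Finite.of_injective _ DFunLike.coe_injective
  obtain ⟨⟨Q, V⟩, hp₀⟩ := hne
  let P' : Set (Subgroup W × Subgroup W) :=
    {p | ∃ φ ∈ H, p = (Q.map φ.toMonoidHom, V.map φ.toMonoidHom)}
  have hsub : P' ⊆ P := by
    rintro p ⟨φ, hφ, rfl⟩
    exact hP.inv φ hφ _ hp₀
  have hmem : (Q, V) ∈ P' := ⟨1, H.one_mem, Prod.ext (Subgroup.map_id Q).symm (Subgroup.map_id V).symm⟩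
  have hP' : IsPairFamily H P' :=
    { inv := by
        rintro φ hφ p ⟨ψ, hψ, rfl⟩
        exact ⟨φ * ψ, H.mul_mem hφ hψ, by simp only [Subgroup.map_map]; rfl⟩
      compl := fun p hp => hP.compl p (hsub hp)
      ne_bot := fun p hp => hP.ne_bot p (hsub hp)
      four := fun p hp => hP.four p (hsub hp)
      ti := fun p hp p' hp' => hP.ti p (hsub hp) p' (hsub hp')
      cyc := fun p hp => hP.cyc p (hsub hp) }
  have hcard : ∀ p ∈ P', Nat.card p.1 = Nat.card Q := by
    rintro p ⟨φ, hφ, rfl⟩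
    exact Subgroup.card_map_of_injective φ.injective
  have hc : IsCompl Q V := hP.compl _ hp₀
  have hV0 : V ≠ ⊥ := fun e => by
    have := hP.four _ hp₀
    simp only [e, Subgroup.card_bot] at this
    omega
  have hQtop : Q ≠ ⊤ := fun e => hV0 (top_disjoint.1 (e ▸ hc.disjoint))
  have hVtop : V ≠ ⊤ := fun e => hP.ne_bot _ hp₀ (disjoint_top.1 (e ▸ hc.disjoint))
  obtain ⟨g, hg⟩ := ind_dichotomy hW hP' hmem hcard
  have hQind : ∀ x ∈ Q, x ≠ 1 → ind P' x = 1 := fun x hx hx1 =>
    (ind_eq_one_iff hP' hx1).2 ⟨_, hmem, hx⟩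
  have hinvX : ∀ (X : Subgroup W) (t : ZMod 2), X ≠ ⊥ → X ≠ ⊤ →
      (∀ w, w ≠ 1 → (w ∈ X ↔ ind P' w = t)) → False := by
    intro X t h1 h2 h
    rcases hirr X (fun φ hφ w hw => by
      by_cases hw1 : w = 1
      · rw [hw1, map_one]; exact X.one_mem
      · have hne : φ w ≠ 1 := fun e => hw1 (φ.injective (e.trans (map_one φ).symm))
        rw [h _ hne, ind_map hP' hφ]
        exact (h w hw1).1 hw) with h3 | h3
    · exact h1 h3
    · exact h2 h3
  have hdec : ∀ w : W, w ≠ 1 → (w ∈ Q ∧ ind P' w = 1) ∨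
      ∃ x ∈ Q, ∃ v ∈ V, v ≠ 1 ∧ w = x * v ∧ w ∉ Q ∧ (w ∈ V ↔ x = 1) := by
    intro w hw
    obtain ⟨⟨x, v⟩, rfl⟩ := (prod_bij hc).2 w
    by_cases hv : v.1 = 1
    · left
      show x.1 * v.1 ∈ Q ∧ ind P' (x.1 * v.1) = 1
      have hx1 : x.1 ≠ 1 := fun e => hw (by show x.1 * v.1 = 1; rw [e, hv, mul_one])
      rw [hv, mul_one]
      exact ⟨x.2, hQind _ x.2 hx1⟩
    · right
      refine ⟨x.1, x.2, v.1, v.2, hv, rfl, fun h => hv ?_, ⟨fun h => ?_, fun h => ?_⟩⟩
      · exact Subgroup.disjoint_def.1 hc.disjoint ((Q.mul_mem_cancel_left x.2).1 h) v.2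
      · exact Subgroup.disjoint_def.1 hc.disjoint x.2 ((V.mul_mem_cancel_right v.2).1 h)
      · show x.1 * v.1 ∈ V
        rw [h, one_mul]; exact v.2
  rcases (by decide : ∀ t : ZMod 2, t = 0 ∨ t = 1) g with rfl | rfl <;>
    rcases Nat.even_or_odd (Nat.card P') with hb | hb
  · -- only `V#` is not covered
    exfalso
    refine hinvX V 0 hV0 hVtop fun w hw => ?_
    rcases hdec w hw with ⟨hwQ, h1⟩ | ⟨x, hx, v, hv, hv1, rfl, -, hiff⟩
    · rw [h1]
      exact ⟨fun h => absurd (Subgroup.disjoint_def.1 hc.disjoint hwQ h) hw,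
        fun h => absurd h one_ne_zero⟩
    · rw [hg x hx v hv hv1, hiff, zero_add]
      by_cases hx1 : x = 1 <;> simp [-Nat.card_coe_set_eq, hx1, ZMod.natCast_eq_zero_iff_even.2 hb]
  · -- every point is covered
    left
    have hcov : ∀ w : W, w ≠ 1 → ∃ p ∈ P', w ∈ p.1 := by
      intro w hw
      rw [← ind_eq_one_iff hP' hw]
      rcases hdec w hw with ⟨-, h1⟩ | ⟨x, hx, v, hv, hv1, rfl, -, -⟩
      · exact h1
      · rw [hg x hx v hv hv1, zero_add]
        by_cases hx1 : x = 1 <;> simp [-Nat.card_coe_set_eq, hx1, ZMod.natCast_eq_one_iff_odd.2 hb]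
    obtain ⟨hQ2, hHodd⟩ := spread hW hP' hmem (fun p hp => hp) hcov hb
    haveI : Group.IsSolvable H := Cfsg.Agent.S0205.result hHodd
    obtain ⟨τ, hτ, hfix, hV, htrans⟩ := hP.cyc _ hp₀
    refine ⟨?_, hHodd⟩
    rcases Walter.eight_or_exists_invariant hW H hHodd τ hτ Q V (hP.ne_bot _ hp₀) hfix hV htrans hc
      (by
        simp only at hQ2
        rw [hQ2]; exact le_trans (by norm_num) (hP.four _ hp₀)) (hP.four _ hp₀) with h | ⟨X, h0, h1, h2⟩
    · exact h
    · exact absurd (hirr X h2) (by tauto)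
  · -- only `Q#` and `V#` are covered
    right
    have hU : ∀ w, w ≠ 1 → (ind P' w = 1 ↔ w ∈ Q ∨ w ∈ V) := by
      intro w hw
      rcases hdec w hw with ⟨hwQ, h1⟩ | ⟨x, hx, v, hv, hv1, rfl, hnQ, hiff⟩
      · exact ⟨fun _ => Or.inl hwQ, fun _ => h1⟩
      · rw [hg x hx v hv hv1, hiff, or_iff_right hnQ]
        by_cases hx1 : x = 1 <;> simp [-Nat.card_coe_set_eq, hx1, ZMod.natCast_eq_zero_iff_even.2 hb,
          show (1 : ZMod 2) + 1 = 0 from rfl]
    obtain ⟨p, hp, hpne⟩ : ∃ p ∈ P', p ≠ (Q, V) := by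
      by_contra hcc
      push Not at hcc
      have h1 : Nat.card P' = 1 := Nat.card_eq_one_iff_unique.2
        ⟨⟨fun a b => Subtype.ext ((hcc a a.2).trans (hcc b b.2).symm)⟩, ⟨⟨_, hmem⟩⟩⟩
      rw [h1] at hb
      exact Nat.not_even_one hb
    have union_le : ∀ A B C : Subgroup W, (∀ a ∈ A, a ∈ B ∨ a ∈ C) → A ≤ B ∨ A ≤ C := by
      intro A B C h
      by_contra hc'
      simp only [not_or, SetLike.not_le_iff_exists] at hc'
      obtain ⟨⟨a, ha, haB⟩, ⟨c, hc, hcC⟩⟩ := hc'
      rcases h _ (A.mul_mem ha hc) with h1 | h1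
      · rcases h c hc with h2 | h2
        · exact haB ((B.mul_mem_cancel_right h2).1 h1)
        · exact hcC h2
      · rcases h a ha with h2 | h2
        · exact haB h2
        · exact hcC ((C.mul_mem_cancel_left h2).1 h1)
    have hp1 : p.1 ≤ V := by
      refine (union_le p.1 Q V fun a ha => ?_).resolve_left fun hle => ?_
      · by_cases ha1 : a = 1
        · exact Or.inl (ha1 ▸ Q.one_mem)
        · exact (hU a ha1).1 ((ind_eq_one_iff hP' ha1).2 ⟨p, hp, ha⟩)
      · exact hP'.ne_bot p hp (by rw [← inf_eq_left.2 hle]; exact hP'.ti p hp _ hmem hpne)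
    have hcp := hP'.compl p hp
    obtain ⟨φ, hφ, hpe⟩ := hp
    have hUp : ∀ a, a ∈ p.1 ∨ a ∈ p.2 ↔ a ∈ Q ∨ a ∈ V := by
      intro a
      by_cases ha1 : a = 1
      · subst ha1; simp
      have ha1' : φ⁻¹ a ≠ 1 := fun e => ha1 ((φ⁻¹ : MulAut W).injective (e.trans (map_one _).symm))
      rw [← hU a ha1, ← ind_map hP' (H.inv_mem hφ) a, hU _ ha1', hpe]
      constructor
      · rintro (⟨b, hb', rfl⟩ | ⟨b, hb', rfl⟩)
        · exact Or.inl (by show φ.symm (φ b) ∈ Q; rwa [φ.symm_apply_apply])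
        · exact Or.inr (by show φ.symm (φ b) ∈ V; rwa [φ.symm_apply_apply])
      · rintro (h | h)
        · exact Or.inl ⟨_, h, φ.apply_symm_apply a⟩
        · exact Or.inr ⟨_, h, φ.apply_symm_apply a⟩
    have hpV : p.1 = V := by
      rcases union_le V p.1 p.2 (fun a ha => (hUp a).2 (Or.inr ha)) with h | h
      · exact le_antisymm hp1 h
      · exfalso
        have : p.1 ≤ p.2 := hp1.trans h
        exact hP'.ne_bot p ⟨φ, hφ, hpe⟩ (by rw [← hcp.disjoint.eq_bot, inf_eq_left.2 this])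
    have hp2 : p.2 = Q := by
      rcases union_le Q p.1 p.2 (fun a ha => (hUp a).2 (Or.inl ha)) with h | h
      · exfalso
        exact hP.ne_bot _ hp₀ (hc.disjoint.eq_bot_of_le (h.trans hp1))
      · refine le_antisymm ?_ h
        refine (union_le p.2 Q V fun a ha => (hUp a).1 (Or.inr ha)).resolve_right fun h' => ?_
        exact hP.ne_bot _ hp₀ (hc.disjoint.eq_bot_of_le (h.trans h'))
    refine ⟨(Q, V), hp₀, ?_⟩
    rw [show ((V, Q) : Subgroup W × Subgroup W) = p from Prod.ext hpV.symm hp2.symm]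
    exact hsub ⟨φ, hφ, hpe⟩
  · -- only `Q#` is covered
    exfalso
    refine hinvX Q 1 (hP.ne_bot _ hp₀) hQtop fun w hw => ?_
    rcases hdec w hw with ⟨hwQ, h1⟩ | ⟨x, hx, v, hv, hv1, rfl, hnQ, -⟩
    · exact ⟨fun _ => h1, fun _ => hwQ⟩
    · rw [hg x hx v hv hv1, iff_false_left hnQ]
      by_cases hx1 : x = 1 <;> simp [-Nat.card_coe_set_eq, hx1, ZMod.natCast_eq_one_iff_odd.2 hb,
        show (1 : ZMod 2) + 1 = 0 from rfl]

end Cfsg.Agent.H18.WA
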