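import Cfsg.Agent.H77.WA.Defs
import Cfsg.Agent.Components.Layer
import Cfsg.Agent.Components.PComponent
import Cfsg.Agent.S0542

/-!
A met component of `C(b)` modulo its core, a Sylow 2-subgroup of `C(b)` over `A`, and what
the twist step needs about them.
-/

set_option autoImplicit false
set_option linter.unusedSectionVars false
set_option linter.style.haveILetI false

namespace Cfsg.Agent.H18.WA

open Subgroup Cfsg.Agent
open Cfsg.Agent.H88.Walter (Bb pre cen vp qp mem_pre)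
open Cfsg.Agent.H21.Walter (coreImage coreProj)
open Cfsg.Agent.H77.WA (Cfg CMet Met Quot Struct NData Untwisted)
open scoped commutatorElement

universe u

variable {G : Type u} [Group G] [Finite G] {S : Sylow 2 G} {A : Subgroup G}

section Basic

theorem commute_of_mem (hA : Cfsg.IsElementaryAbelian 2 A) {x y : G} (hx : x ∈ A) (hy : y ∈ A) :
    Commute x y :=
  congrArg Subtype.val (hA.1.is_comm.comm (⟨x, hx⟩ : A) ⟨y, hy⟩)

theorem le_cent (hA : Cfsg.IsElementaryAbelian 2 A) {b : G} (hb : b ∈ A) :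
    A ≤ centralizer ({b} : Set G) :=
  fun _ hx => mem_centralizer_singleton_iff.2 (commute_of_mem hA hx hb).eq

theorem le_centralizer_self (hA : Cfsg.IsElementaryAbelian 2 A) : A ≤ centralizer (A : Set G) :=
  fun _ hx => mem_centralizer_iff.2 fun _ hy => (commute_of_mem hA hy hx).eq

theorem orderOf_eq_two (hA : Cfsg.IsElementaryAbelian 2 A) {b : G} (hb : b ∈ A) (hb1 : b ≠ 1) :
    orderOf b = 2 :=
  haveI : Fact (Nat.Prime 2) := ⟨Nat.prime_two⟩
  orderOf_eq_prime (hA.2 b hb) hb1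

/-- A 2-group containing a strongly closed abelian subgroup normalises it. -/
theorem le_normalizer_of_closed (hA : Cfsg.IsStronglyClosed A (S : Subgroup G)) {P : Subgroup G}
    (hP : IsPGroup 2 P) (hAP : A ≤ P) : P ≤ normalizer (A : Set G) := by
  haveI : Fact (Nat.Prime 2) := ⟨Nat.prime_two⟩
  obtain ⟨g, hg⟩ := H39.exists_conj_le_sylow hP S
  have hgA : ∀ a ∈ A, g * a * g⁻¹ ∈ A := fun a ha => hA.2 a ha g (hg a (hAP ha))
  have hgN : g ∈ normalizer (A : Set G) := by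
    refine Coprime.mem_normalizer_of_map_conj (eq_of_le_of_card_ge ?_ (by rw [Coprime.card_map_conj]))
    rintro _ ⟨a, ha, rfl⟩
    exact hgA a ha
  intro p hp
  refine Coprime.mem_normalizer_of_map_conj (eq_of_le_of_card_ge ?_ (by rw [Coprime.card_map_conj]))
  rintro _ ⟨a, ha, rfl⟩
  show p * a * p⁻¹ ∈ A
  rw [mem_normalizer_iff.1 hgN]
  have h1 : g * (p * a * p⁻¹) * g⁻¹ ∈ (S : Subgroup G) :=
    hg _ (mul_mem (mul_mem hp (hAP ha)) (inv_mem hp))
  have e : g * (p * a * p⁻¹) * g⁻¹ = g * p * a * (g * p)⁻¹ := by group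
  rw [e] at h1 ⊢
  exact hA.2 a ha _ h1

theorem proj_injOn (hA : Cfsg.IsElementaryAbelian 2 A) {b x : G} (hx : x ∈ A)
    {hxb : x ∈ centralizer ({b} : Set G)} (h : coreProj b ⟨x, hxb⟩ = 1) : x = 1 :=
  congrArg Subtype.val (H21.Walter.coreProj_injOn hA (x := ⟨x, hxb⟩) hx h)

theorem mem_coreImage {b : G} {R : Subgroup G} {y : Bb b} :
    y ∈ coreImage b R ↔
      ∃ (t : G) (ht : t ∈ centralizer ({b} : Set G)), t ∈ R ∧ coreProj b ⟨t, ht⟩ = y :=
  ⟨fun ⟨s, hs, e⟩ => ⟨s, s.2, hs, e⟩, fun ⟨t, ht, htR, e⟩ => ⟨⟨t, ht⟩, htR, e⟩⟩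

theorem proj_comm {b x y : G} (hx : x ∈ centralizer ({b} : Set G))
    (hy : y ∈ centralizer ({b} : Set G)) :
    coreProj b ⟨⁅x, y⁆, Subgroup.mul_mem _ (Subgroup.mul_mem _ (Subgroup.mul_mem _ hx hy)
      (Subgroup.inv_mem _ hx)) (Subgroup.inv_mem _ hy)⟩ =
      ⁅coreProj b ⟨x, hx⟩, coreProj b ⟨y, hy⟩⁆ := by
  rw [← map_commutatorElement]; rfl

/-- A normal odd subgroup and the centre of a core-free group. -/
theorem center_le_sylow {L : Type u} [Group L] [Finite L] (hO : Cfsg.oddCore L = ⊥)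
    (T : Sylow 2 L) : center L ≤ (T : Subgroup L) := by
  haveI : Fact (Nat.Prime 2) := ⟨Nat.prime_two⟩
  have hp : IsPGroup 2 ↥(center L) := by
    rintro ⟨z, hz⟩
    obtain ⟨k, o, ho, he⟩ := Nat.exists_eq_two_pow_mul_odd (n := orderOf z) (orderOf_pos z).ne'
    refine ⟨k, Subtype.ext ?_⟩
    show z ^ 2 ^ k = 1
    haveI : (zpowers (z ^ 2 ^ k)).Normal := ⟨fun w hw g => by
      have hwc : w ∈ center L := (zpowers_le.2 ((center L).pow_mem hz _)) hw
      rwa [mem_center_iff.1 hwc g, mul_inv_cancel_right]⟩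
    have hodd : Odd (Nat.card ↥(zpowers (z ^ 2 ^ k))) := by
      rw [Nat.card_zpowers, orderOf_pow, he, Nat.gcd_eq_right (Dvd.intro _ rfl),
        Nat.mul_div_cancel_left _ (Nat.two_pow_pos k)]
      exact ho
    have := Cores.le_oddCore (N := zpowers (z ^ 2 ^ k)) hodd
    rw [hO] at this
    exact zpowers_eq_bot.1 (le_bot_iff.1 this)
  have hle : center L ≤ normalizer ((T : Subgroup L) : Set L) := fun z hz => by
    rw [mem_normalizer_iff]
    intro w
    rw [← mem_center_iff.1 hz w, mul_inv_cancel_right]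
  exact le_sup_left.trans (T.3 (hp.to_sup_of_normal_right' T.isPGroup' hle) le_sup_right).le

end Basic

/-- A met component with a Sylow 2-subgroup `R` of its centraliser over `A`. -/
structure Loc (S : Sylow 2 G) (A : Subgroup G) (b : G) (L : Subgroup (Bb b)) (R : Subgroup G) :
    Prop where
  cfg : Cfg S A
  hb : b ∈ A
  hb1 : b ≠ 1
  str : Struct (coreImage b A)
  met : CMet A b L
  le : A ≤ R
  cent : R ≤ centralizer ({b} : Set G)
  two : IsPGroup 2 R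
  syl : ∃ T : Sylow 2 L, (T : Subgroup L) = (coreImage b R).subgroupOf L

/-- Sylow subgroups of `C(b)` over a given 2-group. -/
theorem exists_loc (hcfg : Cfg S A) (hbar : H77.WA.BarStruct.{u}) {b : G} (hb : b ∈ A) (hb1 : b ≠ 1)
    {L : Subgroup (Bb b)} (hL : CMet A b L) {P : Subgroup G} (hP : IsPGroup 2 P)
    (hPb : P ≤ centralizer ({b} : Set G)) (hAP : A ≤ P) :
    ∃ R, P ≤ R ∧ Loc S A b L R := by
  haveI : Fact (Nat.Prime 2) := ⟨Nat.prime_two⟩
  obtain ⟨R0, hR0⟩ :=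
    (hP.comap_subtype (K := centralizer ({b} : Set G))).exists_le_sylow
  refine ⟨(R0 : Subgroup ↥(centralizer ({b} : Set G))).map (Subgroup.subtype _), ?_, ?_⟩
  · intro x hx
    exact ⟨⟨x, hPb hx⟩, hR0 hx, rfl⟩
  have hst := hbar G S A hcfg b (le_centralizer_self hcfg.elem hb) (orderOf_eq_two hcfg.elem hb hb1)
  refine ⟨hcfg, hb, hb1, hst, hL, ?_, map_subtype_le _, R0.isPGroup'.map _, ?_⟩
  · exact hAP.trans fun x hx => ⟨⟨x, hPb hx⟩, hR0 hx, rfl⟩
  · have he : coreImage b ((R0 : Subgroup ↥(centralizer ({b} : Set G))).map (Subgroup.subtype _)) =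
        ((R0.mapSurjective (H88.Walter.coreProj_surjective b) : Sylow 2 (Bb b)) : Subgroup (Bb b)) := by
      rw [Sylow.coe_mapSurjective, coreImage, ← comap_subtype,
        comap_map_eq_self_of_injective (Subgroup.subtype_injective _)]
    rw [he]
    exact Cfsg.Agent.S0542.result 2 L hL.1.1 _

theorem sup_zpowers_two (hA : Cfsg.IsElementaryAbelian 2 A) {t : G}
    (htN : t ∈ normalizer (A : Set G)) (ht : ∃ k : ℕ, t ^ 2 ^ k = 1) :
    IsPGroup 2 ↥(A ⊔ zpowers t) := by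
  have hA2 : IsPGroup 2 A := fun a => ⟨1, Subtype.ext (by simpa using hA.2 a.1 a.2)⟩
  obtain ⟨k, hk⟩ := ht
  have ht2 : IsPGroup 2 (zpowers t) := by
    rintro ⟨x, hx⟩
    obtain ⟨i, rfl⟩ := mem_zpowers_iff.1 hx
    refine ⟨k, Subtype.ext ?_⟩
    show (t ^ i) ^ 2 ^ k = 1
    rw [← zpow_natCast, ← zpow_mul, mul_comm, zpow_mul, zpow_natCast, hk, one_zpow]
  exact hA2.to_sup_of_normal_left' ht2 (zpowers_le.2 htN)

namespace Loc

variable {b : G} {L : Subgroup (Bb b)} {R : Subgroup G} (h : Loc S A b L R)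
include h

theorem elem : Cfsg.IsElementaryAbelian 2 A := h.cfg.elem

theorem cA {x : G} (hx : x ∈ A) : x ∈ centralizer ({b} : Set G) := le_cent h.elem h.hb hx

theorem cR {t : G} (ht : t ∈ R ⊓ pre b L) : t ∈ centralizer ({b} : Set G) := h.cent ht.1

theorem normA : R ≤ normalizer (A : Set G) :=
  le_normalizer_of_closed h.cfg.closed h.two h.le

theorem center_le {z : L} (hz : z ∈ center ↥L) :
    (z : Bb b) ∈ centralizer (L : Set (Bb b)) :=
  mem_centralizer_iff.2 fun w hw => congrArg Subtype.val (mem_center_iff.1 hz ⟨w, hw⟩)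

theorem image_mem {x : G} (hx : x ∈ pre b L) (hxb : x ∈ centralizer ({b} : Set G)) :
    coreProj b ⟨x, hxb⟩ ∈ L := (mem_pre.1 hx).2

/-- The image in `L` of an element over it. -/
noncomputable def im (_h : Loc S A b L R) (x : G) (hx : x ∈ pre b L) : L :=
  ⟨coreProj b ⟨x, (mem_pre.1 hx).1⟩, (mem_pre.1 hx).2⟩

theorem im_mul {x y : G} (hx : x ∈ pre b L) (hy : y ∈ pre b L) :
    h.im (x * y) (mul_mem hx hy) = h.im x hx * h.im y hy :=
  Subtype.ext (map_mul (coreProj b) ⟨x, (mem_pre.1 hx).1⟩ ⟨y, (mem_pre.1 hy).1⟩ :)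

theorem im_inv {x : G} (hx : x ∈ pre b L) : h.im x⁻¹ (inv_mem hx) = (h.im x hx)⁻¹ :=
  Subtype.ext (map_inv (coreProj b) ⟨x, (mem_pre.1 hx).1⟩ :)

theorem im_center_iff {x : G} (hx : x ∈ pre b L) :
    h.im x hx ∈ center ↥L ↔ x ∈ cen b L := by
  constructor
  · intro hz; exact mem_pre.2 ⟨(mem_pre.1 hx).1, h.center_le hz⟩
  · intro hz
    obtain ⟨_, hc⟩ := mem_pre.1 hz
    exact mem_center_iff.2 fun w => Subtype.ext (mem_centralizer_iff.1 hc w w.2)

theorem mem_A_L {y : L} : (y ∈ (coreImage b A).subgroupOf L) ↔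
    ∃ v, ∃ hv : v ∈ vp A b L, h.im v hv.2 = y := by
  constructor
  · intro hy
    obtain ⟨a, hab, ha, e⟩ := mem_coreImage.1 (mem_subgroupOf.1 hy)
    have hap : a ∈ pre b L := mem_pre.2 ⟨hab, e ▸ y.2⟩
    exact ⟨a, ⟨ha, hap⟩, Subtype.ext e⟩
  · rintro ⟨v, hv, rfl⟩
    exact mem_subgroupOf.2 (mem_coreImage.2 ⟨v, _, hv.1, rfl⟩)

theorem vp_le : vp A b L ≤ R ⊓ pre b L := inf_le_inf h.le le_rfl

theorem exists_lift {T : Sylow 2 L} (hT : (T : Subgroup L) = (coreImage b R).subgroupOf L) {y : L}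
    (hy : y ∈ (T : Subgroup L)) : ∃ t, ∃ ht : t ∈ R ⊓ pre b L, h.im t ht.2 = y := by
  rw [hT] at hy
  obtain ⟨t, htb, ht, e⟩ := mem_coreImage.1 (mem_subgroupOf.1 hy)
  exact ⟨t, ⟨ht, mem_pre.2 ⟨htb, e ▸ y.2⟩⟩, Subtype.ext e⟩

theorem im_mem {T : Sylow 2 L} (hT : (T : Subgroup L) = (coreImage b R).subgroupOf L) {t : G}
    (ht : t ∈ R ⊓ pre b L) : h.im t ht.2 ∈ (T : Subgroup L) := by
  rw [hT]
  exact mem_subgroupOf.2 (mem_coreImage.2 ⟨t, _, ht.1, rfl⟩)

theorem decomp {a : G} (ha : a ∈ A) : ∃ v ∈ vp A b L, ∃ q ∈ qp A b L, v * q = a := by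
  have ha' : coreProj b ⟨a, h.cA ha⟩ ∈ coreImage b A := mem_coreImage.2 ⟨a, _, ha, rfl⟩
  have hN : coreImage b A ⊓ L ≤ normalizer
      ((coreImage b A ⊓ centralizer (L : Set (Bb b)) : Subgroup (Bb b)) : Set (Bb b)) := by
    intro x hx
    rw [mem_normalizer_iff]
    have hfix : ∀ y : Bb b, y ∈ coreImage b A ⊓ centralizer (L : Set (Bb b)) → x * y * x⁻¹ = y :=
      fun y hy => by rw [mem_centralizer_iff.1 hy.2 x hx.2, mul_inv_cancel_right]
    refine fun y => ⟨fun hy => by rw [hfix y hy]; exact hy, fun hy => ?_⟩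
    have := mem_centralizer_iff.1 hy.2 x hx.2
    have h3 : x * y * x⁻¹ = y := by
      have h4 : x * (x * y * x⁻¹) * x⁻¹ = x * y * x⁻¹ := hfix _ hy
      exact mul_left_cancel (mul_right_cancel h4)
    rwa [h3] at hy
  have h1 := h.str.split L h.met ha'
  rw [← SetLike.mem_coe, coe_mul_of_left_le_normalizer_right _ _ hN] at h1
  obtain ⟨x, ⟨hxA, hxL⟩, y, ⟨hyA, hyC⟩, hxy⟩ := h1
  obtain ⟨v, hvb, hv, rfl⟩ := mem_coreImage.1 hxA
  obtain ⟨q, hqb, hq, rfl⟩ := mem_coreImage.1 hyA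
  refine ⟨v, ⟨hv, mem_pre.2 ⟨hvb, hxL⟩⟩, q, ⟨hq, mem_pre.2 ⟨hqb, hyC⟩⟩, ?_⟩
  replace hxy : coreProj b ⟨v, hvb⟩ * coreProj b ⟨q, hqb⟩ = coreProj b ⟨a, h.cA ha⟩ := hxy
  refine inv_mul_eq_one.1 (proj_injOn h.elem (b := b) (x := (v * q)⁻¹ * a)
    (mul_mem (inv_mem (mul_mem hv hq)) ha)
    (hxb := mul_mem (inv_mem (mul_mem hvb hqb)) (h.cA ha)) ?_)
  rw [show (⟨(v * q)⁻¹ * a, mul_mem (inv_mem (mul_mem hvb hqb)) (h.cA ha)⟩ :
      ↥(centralizer ({b} : Set G))) = (⟨v, hvb⟩ * ⟨q, hqb⟩)⁻¹ * ⟨a, h.cA ha⟩ from rfl,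
    map_mul, map_inv, map_mul, hxy, inv_mul_cancel]

theorem vp_sup_qp : vp A b L ⊔ qp A b L = A := by
  refine le_antisymm (sup_le inf_le_left inf_le_left) fun a ha => ?_
  obtain ⟨v, hv, q, hq, rfl⟩ := h.decomp ha
  exact mul_mem_sup hv hq

theorem vp_inf_qp (hZ : center ↥L = ⊥) : vp A b L ⊓ qp A b L = ⊥ := by
  refine (eq_bot_iff_forall _).2 fun x hx => ?_
  have h1 := (h.im_center_iff hx.1.2).2 hx.2.2
  rw [hZ, mem_bot] at h1
  exact proj_injOn h.elem hx.1.1 (congrArg Subtype.val h1)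

theorem qp_ne : qp A b L ≠ A := by
  intro e
  refine h.met.2 fun y hy => ?_
  obtain ⟨a, hab, ha, rfl⟩ := mem_coreImage.1 hy
  exact (mem_pre.1 ((e.symm ▸ ha : a ∈ qp A b L)).2).2

theorem self_mem_qp : b ∈ qp A b L := by
  refine ⟨h.hb, mem_pre.2 ⟨h.cA h.hb, mem_centralizer_iff.2 fun y _ => ?_⟩⟩
  obtain ⟨z, rfl⟩ := H88.Walter.coreProj_surjective b y
  rw [← map_mul, ← map_mul]
  exact congrArg _ (Subtype.ext (mem_centralizer_singleton_iff.1 z.2))

theorem conjA {t x : G} (ht : t ∈ R) (hx : x ∈ A) : t * x * t⁻¹ ∈ A :=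
  (mem_normalizer_iff.1 (h.normA ht) x).1 hx

theorem commA {t x : G} (ht : t ∈ R) (hx : x ∈ A) : ⁅t, x⁆ ∈ A := by
  rw [commutatorElement_def]
  exact mul_mem (h.conjA ht hx) (inv_mem hx)

/-- An element over `L` centralises `qp`. -/
theorem qp_comm {t : G} (ht : t ∈ R ⊓ pre b L) {q : G} (hq : q ∈ qp A b L) : Commute t q := by
  refine commutatorElement_eq_one_iff_mul_comm.1 (proj_injOn h.elem (h.commA ht.1 hq.1)
    (hxb := h.cA (h.commA ht.1 hq.1)) ?_)
  obtain ⟨hqb, hqc⟩ := mem_pre.1 hq.2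
  rw [proj_comm (h.cR ht) hqb, commutatorElement_eq_one_iff_mul_comm]
  exact mem_centralizer_iff.1 hqc _ (h.image_mem ht.2 _)

theorem comm_of_im {t v : G} (ht : t ∈ R ⊓ pre b L) (hv : v ∈ vp A b L)
    (he : Commute (h.im t ht.2) (h.im v hv.2)) : Commute t v := by
  refine commutatorElement_eq_one_iff_mul_comm.1 (proj_injOn h.elem (h.commA ht.1 hv.1)
    (hxb := h.cA (h.commA ht.1 hv.1)) ?_)
  rw [proj_comm (h.cR ht) (h.cA hv.1), commutatorElement_eq_one_iff_mul_comm]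
  exact congrArg Subtype.val he.eq

theorem mem_centralizer_A {t : G} (ht : t ∈ R ⊓ pre b L)
    (hc : ∀ v ∈ vp A b L, Commute t v) : t ∈ centralizer (A : Set G) :=
  mem_centralizer_iff.2 fun a ha => by
    obtain ⟨v, hv, q, hq, rfl⟩ := h.decomp ha
    exact ((hc v hv).mul_right (h.qp_comm ht hq)).eq.symm

theorem oddCore_L : Cfsg.oddCore ↥L = ⊥ :=
  Components.pPrimeCore_component (p := 2) (H10.Walter.oddCore_bar _) h.met.1

theorem center_le_T (T : Sylow 2 L) : center ↥L ≤ (T : Subgroup L) :=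
  center_le_sylow h.oddCore_L T

end Loc

end Cfsg.Agent.H18.WA
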