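import Mathlib

/-!
Families of pairs `(Q, V)` of complementary subgroups of an elementary abelian 2-group, each pair
with an automorphism fixing `Q` and cyclically transitive on `V#`, the first members meeting
trivially: the points covered, via a parity over the cosets of `V × ⟨q₀⟩`.
-/

set_option autoImplicit false

namespace Cfsg.Agent.H18.WA

variable {W : Type*} [CommGroup W]

/-- An invariant family of pairs with trivially intersecting first members. -/
structure IsPairFamily (H : Subgroup (MulAut W)) (P : Set (Subgroup W × Subgroup W)) : Prop where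
  inv : ∀ φ ∈ H, ∀ p ∈ P, ((p.1.map φ.toMonoidHom, p.2.map φ.toMonoidHom) :
    Subgroup W × Subgroup W) ∈ P
  compl : ∀ p ∈ P, IsCompl p.1 p.2
  ne_bot : ∀ p ∈ P, p.1 ≠ ⊥
  four : ∀ p ∈ P, 4 ≤ Nat.card p.2
  ti : ∀ p ∈ P, ∀ p' ∈ P, p ≠ p' → p.1 ⊓ p'.1 = ⊥
  cyc : ∀ p ∈ P, ∃ τ ∈ H, (∀ x ∈ p.1, τ x = x) ∧ (∀ v ∈ p.2, τ v ∈ p.2) ∧
    ∀ v ∈ p.2, v ≠ 1 → ∀ w ∈ p.2, w ≠ 1 → ∃ i : ℕ, (τ ^ i) v = w

lemma pow_fix {τ : MulAut W} {x : W} (h : τ x = x) : ∀ i : ℕ, (τ ^ i) x = x := by
  intro i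
  induction i with
  | zero => rfl
  | succ i ih =>
    rw [pow_succ]
    show (τ ^ i) (τ x) = x
    rw [h, ih]

lemma pow_mem {τ : MulAut W} {V : Subgroup W} (h : ∀ v ∈ V, τ v ∈ V) (i : ℕ) {v : W} (hv : v ∈ V) :
    (τ ^ i) v ∈ V := by
  induction i with
  | zero => exact hv
  | succ i ih =>
    rw [pow_succ']
    exact h _ ih

variable [Finite W]

/-- The number of members through `w`, modulo two. -/
noncomputable def ind (P : Set (Subgroup W × Subgroup W)) (w : W) : ZMod 2 :=
  (Nat.card {p : Subgroup W × Subgroup W // p ∈ P ∧ w ∈ p.1} : ℕ)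

/-- Membership in a large subgroup has even weight on every coset. -/
lemma sum_coset_even (hW : ∀ w : W, w * w = 1) (Q D : Subgroup W)
    (hlt : Nat.card W < Nat.card Q * Nat.card D) (x : W) [Fintype D] [DecidablePred (· ∈ Q)] :
    ∑ d : D, (if x * d.1 ∈ Q then (1 : ZMod 2) else 0) = 0 := by
  classical
  obtain ⟨e, he, he1⟩ : ∃ e ∈ Q ⊓ D, e ≠ 1 := by
    by_contra hc
    push Not at hc
    have hbot : Q ⊓ D = ⊥ := (Subgroup.eq_bot_iff_forall _).2 hc
    have hinj : Function.Injective (fun p : Q × D => (p.1 : W) * p.2) :=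
      Subgroup.mul_injective_of_disjoint (disjoint_iff.2 hbot)
    have := Nat.card_le_card_of_injective _ hinj
    rw [Nat.card_prod] at this
    omega
  obtain ⟨heQ, heD⟩ := Subgroup.mem_inf.1 he
  refine Finset.sum_involution (fun d _ => d * ⟨e, heD⟩) (fun d _ => ?_) (fun d _ _ h => he1 ?_)
    (fun d _ => Finset.mem_univ _) (fun d _ => ?_)
  · have : (x * (d * ⟨e, heD⟩ : D).1 ∈ Q) ↔ x * d.1 ∈ Q := by
      show x * (d.1 * e) ∈ Q ↔ _
      rw [← mul_assoc]
      exact Q.mul_mem_cancel_right heQ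
    simp only [this]
    exact CharTwo.add_self_eq_zero _
  · exact congrArg Subtype.val (mul_left_cancel (h.trans (mul_one d).symm))
  · rw [mul_assoc]
    have : (⟨e, heD⟩ : D) * ⟨e, heD⟩ = 1 := Subtype.ext (hW e)
    rw [this, mul_one]

/-- The members sum to zero on the cosets of a large subgroup. -/
lemma sum_ind_coset (hW : ∀ w : W, w * w = 1) (P : Set (Subgroup W × Subgroup W)) (D : Subgroup W)
    [Fintype D] (hlt : ∀ p ∈ P, Nat.card W < Nat.card p.1 * Nat.card D) (x : W) :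
    ∑ d : D, ind P (x * d.1) = 0 := by
  classical
  have := Fintype.ofFinite ↥P
  have hind : ∀ w, ind P w = ∑ p : ↥P, if w ∈ p.1.1 then (1 : ZMod 2) else 0 := by
    intro w
    rw [ind, Finset.sum_boole]
    congr 1
    rw [← Nat.card_congr (Equiv.subtypeSubtypeEquivSubtypeInter (· ∈ P) (fun p => w ∈ p.1)),
      Nat.card_eq_fintype_card, Fintype.card_subtype]
  simp only [hind]
  rw [Finset.sum_comm]
  exact Finset.sum_eq_zero fun p _ => sum_coset_even hW p.1.1 D (hlt p.1 p.2) x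

section Pair

variable {H : Subgroup (MulAut W)} {P : Set (Subgroup W × Subgroup W)}
  {Q V : Subgroup W}

omit [Finite W] in
lemma map_injOn (φ : MulAut W) : Function.Injective
    (fun p : Subgroup W × Subgroup W => (p.1.map φ.toMonoidHom, p.2.map φ.toMonoidHom)) := by
  rintro ⟨a, b⟩ ⟨c, d⟩ h
  simp only [Prod.mk.injEq] at h ⊢
  exact ⟨Subgroup.map_injective φ.injective h.1, Subgroup.map_injective φ.injective h.2⟩

/-- The weight is invariant. -/
lemma ind_map (hP : IsPairFamily H P) {φ : MulAut W} (hφ : φ ∈ H) (w : W) :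
    ind P (φ w) = ind P w := by
  classical
  refine congrArg Nat.cast (Nat.card_congr ?_).symm
  refine Equiv.ofBijective (fun p => ⟨(p.1.1.map φ.toMonoidHom, p.1.2.map φ.toMonoidHom),
    hP.inv φ hφ _ p.2.1, ⟨w, p.2.2, rfl⟩⟩) ⟨fun a b h => ?_, fun p => ?_⟩
  · exact Subtype.ext (map_injOn φ (congrArg Subtype.val h))
  · have h1 := hP.inv φ⁻¹ (H.inv_mem hφ) _ p.2.1
    refine ⟨⟨(p.1.1.map (φ⁻¹ : MulAut W).toMonoidHom, p.1.2.map (φ⁻¹ : MulAut W).toMonoidHom), h1,
      ⟨φ w, p.2.2, φ.symm_apply_apply w⟩⟩, Subtype.ext (Prod.ext ?_ ?_)⟩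
    · show (p.1.1.map (φ⁻¹ : MulAut W).toMonoidHom).map φ.toMonoidHom = p.1.1
      rw [Subgroup.map_map]
      convert Subgroup.map_id p.1.1
      ext z; exact φ.apply_symm_apply z
    · show (p.1.2.map (φ⁻¹ : MulAut W).toMonoidHom).map φ.toMonoidHom = p.1.2
      rw [Subgroup.map_map]
      convert Subgroup.map_id p.1.2
      ext z; exact φ.apply_symm_apply z

/-- Off `1` the weight is the indicator of the union. -/
lemma ind_eq_one_iff (hP : IsPairFamily H P) {w : W} (hw : w ≠ 1) :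
    ind P w = 1 ↔ ∃ p ∈ P, w ∈ p.1 := by
  constructor
  · intro h
    by_contra hc
    have : IsEmpty {p : Subgroup W × Subgroup W // p ∈ P ∧ w ∈ p.1} :=
      ⟨fun p => hc ⟨p.1, p.2.1, p.2.2⟩⟩
    rw [ind, Nat.card_of_isEmpty, Nat.cast_zero] at h
    exact zero_ne_one h
  · rintro ⟨p, hp, hwp⟩
    have : Nat.card {p : Subgroup W × Subgroup W // p ∈ P ∧ w ∈ p.1} = 1 := by
      refine Nat.card_eq_one_iff_unique.2 ⟨⟨fun a b => Subtype.ext ?_⟩, ⟨⟨p, hp, hwp⟩⟩⟩
      by_contra hne
      have h1 : w ∈ a.1.1 ⊓ b.1.1 := ⟨a.2.2, b.2.2⟩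
      rw [hP.ti a.1 a.2.1 b.1 b.2.1 hne] at h1
      exact hw (Subgroup.mem_bot.1 h1)
    rw [ind, this, Nat.cast_one]

/-- The weight at the identity is the parity of the family. -/
lemma ind_one (P : Set (Subgroup W × Subgroup W)) : ind P 1 = (Nat.card P : ℕ) := by
  refine congrArg Nat.cast (Nat.card_congr (Equiv.subtypeEquivRight fun p => ?_))
  exact ⟨fun h => h.1, fun h => ⟨h, p.1.one_mem⟩⟩

/-- Members have the sizes of a fixed one when the family is a single orbit. -/
lemma prod_bij (hc : IsCompl Q V) : Function.Bijective (fun p : Q × V => (p.1 : W) * p.2) := by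
  refine ⟨Subgroup.mul_injective_of_disjoint hc.disjoint, fun w => ?_⟩
  obtain ⟨a, ha, b, hb, rfl⟩ := Subgroup.mem_sup_of_normal_left.1
    (hc.sup_eq_top ▸ Subgroup.mem_top w : w ∈ Q ⊔ V)
  exact ⟨(⟨a, ha⟩, ⟨b, hb⟩), rfl⟩

lemma card_mul (hc : IsCompl Q V) : Nat.card W = Nat.card Q * Nat.card V := by
  rw [← Nat.card_eq_of_bijective _ (prod_bij hc), Nat.card_prod]

open Classical in
/-- The weight along `V` above a point of `Q`. -/
lemma ind_dichotomy (hW : ∀ w : W, w * w = 1) (hP : IsPairFamily H P) (hQV : (Q, V) ∈ P)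
    (hcard : ∀ p ∈ P, Nat.card p.1 = Nat.card Q) :
    ∃ g : ZMod 2, ∀ x ∈ Q, ∀ v ∈ V, v ≠ 1 →
      ind P (x * v) = g + if x = 1 then (Nat.card P : ℕ) else 1 := by
  classical
  obtain ⟨τ, hτ, hfix, hV, htrans⟩ := hP.cyc _ hQV
  have hc : IsCompl Q V := hP.compl _ hQV
  have h4 : 4 ≤ Nat.card V := hP.four _ hQV
  obtain ⟨v0, hv0, hv01⟩ : ∃ v ∈ V, v ≠ 1 := by
    by_contra hcc
    push Not at hcc
    rw [(Subgroup.eq_bot_iff_forall V).2 hcc, Subgroup.card_bot] at h4
    omega
  have := Fintype.ofFinite V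
  have hconst : ∀ x ∈ Q, ∀ v ∈ V, v ≠ 1 → ind P (x * v) = ind P (x * v0) := by
    intro x hx v hv hv1
    obtain ⟨i, hi⟩ := htrans v0 hv0 hv01 v hv hv1
    calc ind P (x * v) = ind P ((τ ^ i) (x * v0)) := by
          rw [map_mul, hi, pow_fix (hfix x hx) i]
      _ = ind P (x * v0) := ind_map hP (H.pow_mem hτ i) _
  have hev : Odd (Fintype.card V - 1) := by
    rw [← Nat.card_eq_fintype_card]
    obtain ⟨c, hc'⟩ : 2 ∣ Nat.card V := by
      haveI : Fact (Nat.Prime 2) := ⟨Nat.prime_two⟩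
      exact (orderOf_eq_prime (p := 2) (Subtype.ext (by rw [pow_two]; exact hW v0) :
        (⟨v0, hv0⟩ : V) ^ 2 = 1) (fun h => hv01 (congrArg Subtype.val h))) ▸ orderOf_dvd_natCard _
    exact ⟨c - 1, by omega⟩
  have hind0 : ∀ x ∈ Q, ind P x = if x = 1 then (Nat.card P : ℕ) else 1 := by
    intro x hx
    split_ifs with h
    · subst h; rw [ind_one]
    · rw [(ind_eq_one_iff hP h).2 ⟨_, hQV, hx⟩, Nat.cast_one]
  -- the sum over a coset of `V`
  let s : W → ZMod 2 := fun x => ∑ v : V, ind P (x * v.1)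
  have hs : ∀ x ∈ Q, s x = ind P x + ind P (x * v0) := by
    intro x hx
    show ∑ v : V, ind P (x * v.1) = _
    rw [← Finset.add_sum_erase Finset.univ _ (Finset.mem_univ (1 : V))]
    show ind P (x * 1) + _ = _
    rw [mul_one, Finset.sum_congr rfl (fun v hv => hconst x hx v.1 v.2
      (fun h => (Finset.mem_erase.1 hv).1 (Subtype.ext h))), Finset.sum_const,
      Finset.card_erase_of_mem (Finset.mem_univ _), Finset.card_univ, nsmul_eq_mul,
      ZMod.natCast_eq_one_iff_odd.2 hev, one_mul]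
  have hs1 : ∀ x ∈ Q, s x = s 1 := by
    intro x hx
    by_cases hx1 : x = 1
    · rw [hx1]
    set D := Subgroup.zpowers x ⊔ V with hD
    have := Fintype.ofFinite D
    have hdisj : Disjoint (Subgroup.zpowers x) V := hc.disjoint.mono_left (by simpa using hx)
    have hxx : orderOf x = 2 :=
      haveI : Fact (Nat.Prime 2) := ⟨Nat.prime_two⟩
      orderOf_eq_prime (by rw [pow_two]; exact hW x) hx1
    have hsum := sum_ind_coset hW P D (fun p hp => by
      rw [hcard p hp, card_mul hc]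
      refine Nat.mul_lt_mul_of_pos_left ?_ Nat.card_pos
      have hinj : Function.Injective (fun p : Subgroup.zpowers x × V => (⟨(p.1 : W) * p.2,
          Subgroup.mul_mem_sup p.1.2 p.2.2⟩ : D)) := fun a b h =>
        Subgroup.mul_injective_of_disjoint hdisj (congrArg Subtype.val h)
      have := Nat.card_le_card_of_injective _ hinj
      rw [Nat.card_prod, Nat.card_zpowers, hxx] at this
      omega) 1
    let F : Bool × V → D := fun p => ⟨(bif p.1 then x else 1) * p.2.1, Subgroup.mul_mem_sup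
      (by cases p.1; exacts [Subgroup.one_mem _, Subgroup.mem_zpowers x]) p.2.2⟩
    have hF : Function.Bijective F := by
      refine ⟨fun a b h => ?_, fun d => ?_⟩
      · have h' : (bif a.1 then x else 1) * a.2.1 = (bif b.1 then x else 1) * b.2.1 :=
          congrArg Subtype.val h
        have hmem : ∀ c : Bool, (bif c then x else 1) ∈ Subgroup.zpowers x := fun c => by
          cases c; exacts [Subgroup.one_mem _, Subgroup.mem_zpowers x]
        have := Subgroup.mul_injective_of_disjoint hdisj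
          (a₁ := (⟨_, hmem a.1⟩, a.2)) (a₂ := (⟨_, hmem b.1⟩, b.2)) h'
        simp only [Prod.mk.injEq, Subtype.mk.injEq] at this
        refine Prod.ext ?_ this.2
        cases ha : a.1 <;> cases hb : b.1 <;> simp_all
      · obtain ⟨a, ha, v, hv, h⟩ := Subgroup.mem_sup_of_normal_left.1 d.2
        have : a = 1 ∨ a = x := by
          obtain ⟨i, rfl⟩ := Subgroup.mem_zpowers_iff.1 ha
          rw [← zpow_mod_orderOf, hxx]
          rcases Int.emod_two_eq_zero_or_one i with hi | hi <;> simp [hi]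
        rcases this with rfl | rfl
        · exact ⟨(false, ⟨v, hv⟩), Subtype.ext h⟩
        · exact ⟨(true, ⟨v, hv⟩), Subtype.ext h⟩
    rw [← Equiv.sum_comp (Equiv.ofBijective F hF), Fintype.sum_prod_type,
      Fintype.sum_bool] at hsum
    simp only [Equiv.ofBijective_apply, F, cond_true, cond_false, one_mul] at hsum
    have h2 : s x + s 1 = 0 := by
      show (∑ v : V, ind P (x * v.1)) + ∑ v : V, ind P (1 * v.1) = 0
      simp only [one_mul]; exact hsum
    exact CharTwo.add_eq_zero.1 h2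
  refine ⟨s 1, fun x hx v hv hv1 => ?_⟩
  have h1 := hs1 x hx
  rw [hs x hx, hind0 x hx] at h1
  rw [hconst x hx v hv hv1, ← h1]
  generalize ind P (x * v0) = a
  generalize ((if x = 1 then Nat.card P else 1 : ℕ) : ZMod 2) = b
  revert a b; decide

end Pair

end Cfsg.Agent.H18.WA
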