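import Cfsg.Agent.H18.WA.Local

/-!
Non-abelian met components: the piece modulo the centre is the involution group of the Sylow
subgroup of the simple quotient, and, twisted, that group has non-square order.
-/

set_option autoImplicit false
set_option linter.unusedSectionVars false
set_option linter.style.haveILetI false

namespace Cfsg.Agent.H18.WA

open Subgroup Cfsg.Agent
open Cfsg.Agent.H88.Walter (Bb pre cen vp qp mem_pre)
open Cfsg.Agent.H21.Walter (coreImage coreProj)
open Cfsg.Agent.H10.Walter (AbSyl)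
open Cfsg.Agent.H77.WA (Cfg CMet Met Quot Struct NData Untwisted)
open scoped commutatorElement

universe u

variable {G : Type u} [Group G] [Finite G] {S : Sylow 2 G} {A : Subgroup G}

/-- The piece of a non-abelian component. -/
structure NLoc (S : Sylow 2 G) (A : Subgroup G) (b : G) (L : Subgroup (Bb b)) (R : Subgroup G)
    (T : Sylow 2 L) (V : Subgroup (Quot L)) : Prop where
  loc : Loc S A b L R
  T_eq : (T : Subgroup L) = (coreImage b R).subgroupOf L
  data : NData ((T : Subgroup L).map (QuotientGroup.mk' (center ↥L))) V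

theorem exists_nloc (htf : H77.WA.TypeFacts.{u}) {b : G} {L : Subgroup (Bb b)} {R : Subgroup G}
    (h : Loc S A b L R) (hab : ¬ AbSyl (Quot L)) :
    ∃ T V, NLoc S A b L R T V := by
  obtain ⟨T, hT⟩ := h.syl
  have hN : H77.WA.NType (Quot L) :=
    (h.str.type L h.met).resolve_left fun ha => hab ha.2.2.1
  obtain ⟨V, hV⟩ := htf.nab (Quot L) hN (T.mapSurjective (QuotientGroup.mk'_surjective _))
  exact ⟨T, V, h, hT, by rwa [Sylow.coe_mapSurjective] at hV⟩

/-- An automorphism-invariant form of conjugation: lift an element of odd order. -/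
theorem exists_odd_lift {X Y : Type*} [Group X] [Finite X] [Group Y] (f : X →* Y)
    (hf : Function.Surjective f) {y : Y} (hy : Odd (orderOf y)) :
    ∃ x, f x = y ∧ Odd (orderOf x) := by
  obtain ⟨l, rfl⟩ := hf y
  obtain ⟨k, o, ho, he⟩ := Nat.exists_eq_two_pow_mul_odd (n := orderOf l) (orderOf_pos l).ne'
  have hdvd : orderOf (f l) ∣ o := by
    have h1 : orderOf (f l) ∣ 2 ^ k * o := he ▸ orderOf_map_dvd f l
    exact (Nat.Coprime.pow_right k (Nat.coprime_two_right.2 hy)).dvd_of_dvd_mul_left h1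
  obtain ⟨e, he1, he2⟩ := Nat.chineseRemainder (Nat.Coprime.pow_left k (Nat.coprime_two_left.2 ho)) 0 1
  refine ⟨l ^ e, ?_, ?_⟩
  · rw [map_pow]
    conv_rhs => rw [← pow_one (f l)]
    exact pow_eq_pow_iff_modEq.2 (he2.of_dvd hdvd)
  · refine ho.of_dvd_nat (orderOf_dvd_of_pow_eq_one ?_)
    rw [← pow_mul]
    refine orderOf_dvd_iff_pow_eq_one.1 ?_
    rw [he]
    exact Nat.mul_dvd_mul (Nat.modEq_zero_iff_dvd.1 he1) dvd_rfl

namespace NLoc

variable {b : G} {L : Subgroup (Bb b)} {R : Subgroup G} {T : Sylow 2 L} {V : Subgroup (Quot L)}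
  (h : NLoc S A b L R T V)
include h

theorem im_mem {t : G} (ht : t ∈ R ⊓ pre b L) : h.loc.im t ht.2 ∈ (T : Subgroup L) :=
  h.loc.im_mem h.T_eq ht

theorem mk_mem {y : L} (hy : y ∈ (T : Subgroup L)) :
    QuotientGroup.mk' (center ↥L) y ∈ (T : Subgroup L).map (QuotientGroup.mk' (center ↥L)) :=
  mem_map_of_mem _ hy

theorem V_mem {x : Quot L} : x ∈ V ↔ ∃ v, ∃ hv : v ∈ vp A b L,
    QuotientGroup.mk' (center ↥L) (h.loc.im v hv.2) = x := by
  constructor
  · intro hx
    obtain ⟨⟨t, ht, rfl⟩, hsq⟩ := (h.data.mem_iff x).1 hx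
    have h1 : t * t ∈ center ↥L := by
      rw [← map_mul] at hsq
      exact (QuotientGroup.eq_one_iff _).1 hsq
    have hle : (coreImage b A).subgroupOf L ≤ (T : Subgroup L) := fun y hy => by
      obtain ⟨v, hv, rfl⟩ := h.loc.mem_A_L.1 hy
      exact h.im_mem (h.loc.vp_le hv)
    have h2 := (h.loc.str.image L h.loc.met T hle t ht).1 h1
    obtain ⟨y, hy, z, hz, rfl⟩ := mem_sup_of_normal_right.1 h2
    obtain ⟨v, hv, rfl⟩ := h.loc.mem_A_L.1 hy
    refine ⟨v, hv, ?_⟩
    rw [map_mul, show QuotientGroup.mk' (center ↥L) z = 1 from (QuotientGroup.eq_one_iff z).2 hz,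
      mul_one]
  · rintro ⟨v, hv, rfl⟩
    refine (h.data.mem_iff _).2 ⟨h.mk_mem (h.im_mem (h.loc.vp_le hv)), ?_⟩
    rw [← map_mul]
    have e : h.loc.im v hv.2 * h.loc.im v hv.2 = 1 := by
      rw [← h.loc.im_mul hv.2 hv.2]
      apply Subtype.ext
      show coreProj b ⟨v * v, _⟩ = 1
      have hvv : v * v = 1 := by rw [← pow_two]; exact h.loc.elem.2 v hv.1
      simp only [hvv]
      exact map_one _
    rw [e, map_one]

/-- The piece onto `V`. -/
noncomputable def psi : ↥(vp A b L) →* Quot L :=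
  MonoidHom.mk' (fun v => QuotientGroup.mk' (center ↥L) (h.loc.im v.1 v.2.2))
    (fun v w => by rw [← map_mul, ← h.loc.im_mul]; rfl)

theorem psi_range : h.psi.range = V := by
  ext x
  rw [h.V_mem]
  exact ⟨fun ⟨v, e⟩ => ⟨v.1, v.2, e⟩, fun ⟨v, hv, e⟩ => ⟨⟨v, hv⟩, e⟩⟩

theorem psi_ker : h.psi.ker = (qp A b L).subgroupOf (vp A b L) := by
  ext v
  rw [MonoidHom.mem_ker, mem_subgroupOf]
  show QuotientGroup.mk' _ _ = 1 ↔ _
  rw [QuotientGroup.mk'_apply, QuotientGroup.eq_one_iff, h.loc.im_center_iff]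
  exact ⟨fun hc => ⟨v.2.1, hc⟩, fun hc => hc.2⟩

theorem relIndex_vp : (qp A b L).relIndex (vp A b L) = Nat.card V := by
  rw [relIndex, ← h.psi_ker, index_ker, h.psi_range]

theorem relIndex_A : (qp A b L).relIndex A = Nat.card V := by
  haveI : ((qp A b L).subgroupOf A).Normal := ⟨fun x hx g => by
    rwa [show g * x * g⁻¹ = x from Subtype.ext (by
      show g.1 * x.1 * g.1⁻¹ = x.1
      rw [(commute_of_mem h.loc.elem g.2 x.2).eq, mul_inv_cancel_right])]⟩
  have h1 := relIndex_sup_right (H := (vp A b L).subgroupOf A) (K := (qp A b L).subgroupOf A)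
  rw [← subgroupOf_sup (show vp A b L ≤ A from inf_le_left) (show qp A b L ≤ A from inf_le_left),
    h.loc.vp_sup_qp, relIndex_subgroupOf le_rfl,
    relIndex_subgroupOf (show vp A b L ≤ A from inf_le_left), h.relIndex_vp] at h1
  exact h1

/-- The kernel of the action of `T` on the piece. -/
def CT (_h : NLoc S A b L R T V) : Subgroup L :=
  (T : Subgroup L) ⊓ centralizer (((coreImage b A).subgroupOf L : Subgroup L) : Set L)

theorem mem_CT {y : L} (hy : y ∈ (T : Subgroup L))
    (hc : ∀ v, ∀ hv : v ∈ vp A b L, Commute (h.loc.im v hv.2) y) : y ∈ h.CT :=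
  ⟨hy, mem_centralizer_iff.2 fun x hx => by
    obtain ⟨v, hv, rfl⟩ := h.loc.mem_A_L.1 hx
    exact (hc v hv).eq⟩

theorem comm_of_CT {y : L} (hy : y ∈ h.CT) {v : G} (hv : v ∈ vp A b L) :
    Commute (h.loc.im v hv.2) y :=
  mem_centralizer_iff.1 hy.2 _ (h.loc.mem_A_L.2 ⟨v, hv, rfl⟩)

theorem center_le_CT : center ↥L ≤ h.CT := fun z hz =>
  h.mem_CT (h.loc.center_le_T T hz) fun v _ => mem_center_iff.1 hz _

theorem V_le_CT : V ≤ h.CT.map (QuotientGroup.mk' (center ↥L)) := by
  intro x hx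
  obtain ⟨v, hv, rfl⟩ := h.V_mem.1 hx
  refine mem_map_of_mem _ (h.mem_CT (h.im_mem (h.loc.vp_le hv)) fun w hw => ?_)
  show h.loc.im w hw.2 * h.loc.im v hv.2 = h.loc.im v hv.2 * h.loc.im w hw.2
  rw [← h.loc.im_mul hw.2 hv.2, ← h.loc.im_mul hv.2 hw.2]
  simp only [(commute_of_mem h.loc.elem hw.1 hv.1).eq]

/-- A lift of an element normalising the image of `T` normalises `T`. -/
theorem norm_lift {y : L} (hy : QuotientGroup.mk' (center ↥L) y ∈
    normalizer (((T : Subgroup L).map (QuotientGroup.mk' (center ↥L)) : Subgroup (Quot L)) :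
      Set (Quot L))) {w : L} (hw : w ∈ (T : Subgroup L)) : y * w * y⁻¹ ∈ (T : Subgroup L) := by
  have h1 := (mem_normalizer_iff.1 hy _).1 (h.mk_mem hw)
  rw [← map_inv, ← map_mul, ← map_mul] at h1
  obtain ⟨w', hw', e⟩ := h1
  have hz : w'⁻¹ * (y * w * y⁻¹) ∈ center ↥L :=
    (QuotientGroup.eq_one_iff _).1 (show QuotientGroup.mk' (center ↥L) (w'⁻¹ * (y * w * y⁻¹)) = 1 by
      rw [map_mul, map_inv, e, inv_mul_cancel])
  have := mul_mem hw' (h.loc.center_le_T T hz)
  rwa [mul_inv_cancel_left] at this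

/-- Either everything over `L` centralises the piece, or `|V|` is no square and only the
preimage of `V` centralises it. -/
theorem cases_twist : (T : Subgroup L) ≤ h.CT ∨
    ((∀ k : ℕ, Nat.card V ≠ k ^ 2) ∧ h.CT.map (QuotientGroup.mk' (center ↥L)) = V) := by
  set mk := QuotientGroup.mk' (center ↥L) with hmk
  have hful : h.CT.map mk = (T : Subgroup L).map mk → (T : Subgroup L) ≤ h.CT := by
    intro e y hy
    obtain ⟨w, hw, ew⟩ : mk y ∈ h.CT.map mk := e.symm ▸ mem_map_of_mem mk hy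
    have hz : w⁻¹ * y ∈ center ↥L := (QuotientGroup.eq_one_iff _).1
      (show mk (w⁻¹ * y) = 1 by rw [map_mul, map_inv, ew, inv_mul_cancel])
    have := mul_mem hw (h.center_le_CT hz)
    rwa [mul_inv_cancel_left] at this
  have hCTle : h.CT.map mk ≤ (T : Subgroup L).map mk := map_mono inf_le_left
  rcases h.data.notwist with ⟨y0, hy0N, hy0odd, hy0c, hy0gen⟩ | hsq
  · left
    obtain ⟨y, hy, hyodd⟩ := exists_odd_lift mk (QuotientGroup.mk'_surjective _) hy0odd
    -- `y` centralises the piece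
    have hyB : ∀ v, ∀ hv : v ∈ vp A b L, Commute (h.loc.im v hv.2) y := by
      intro v hv
      set w := h.loc.im v hv.2
      have hwV : mk w ∈ V := h.V_mem.2 ⟨v, hv, rfl⟩
      have hz : w⁻¹ * (y * w * y⁻¹) ∈ center ↥L := (QuotientGroup.eq_one_iff _).1
        (show mk (w⁻¹ * (y * w * y⁻¹)) = 1 by
          rw [map_mul, map_mul, map_mul, map_inv, map_inv, hy, (hy0c _ hwV).eq,
            mul_inv_cancel_right, inv_mul_cancel])
      set z := w⁻¹ * (y * w * y⁻¹) with hzdef
      have hpow : ∀ i : ℕ, y ^ i * w * (y ^ i)⁻¹ = w * z ^ i := by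
        intro i
        induction i with
        | zero => simp
        | succ i ih =>
          have hzi : y * z ^ i * y⁻¹ = z ^ i := by
            rw [mem_center_iff.1 ((center ↥L).pow_mem hz i) y, mul_inv_cancel_right]
          calc y ^ (i + 1) * w * (y ^ (i + 1))⁻¹ = y * (y ^ i * w * (y ^ i)⁻¹) * y⁻¹ := by
                rw [pow_succ']; group
            _ = y * (w * z ^ i) * y⁻¹ := by rw [ih]
            _ = (y * w * y⁻¹) * (y * z ^ i * y⁻¹) := by group
            _ = w * z * z ^ i := by rw [hzi, hzdef]; group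
            _ = w * z ^ (i + 1) := by rw [mul_assoc, ← pow_succ']
      have hzo : z ^ orderOf y = 1 := by
        have := hpow (orderOf y)
        rw [pow_orderOf_eq_one, one_mul, inv_one, mul_one] at this
        exact mul_eq_left.1 this.symm
      have hz2 : z ^ 2 = 1 := by
        have hww : w * w = 1 := by
          apply Subtype.ext
          show coreProj b ⟨v, _⟩ * coreProj b ⟨v, _⟩ = 1
          rw [← map_mul]
          have hvv : v * v = 1 := by rw [← pow_two]; exact h.loc.elem.2 v hv.1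
          rw [show (⟨v, (mem_pre.1 hv.2).1⟩ * ⟨v, (mem_pre.1 hv.2).1⟩ :
            ↥(centralizer ({b} : Set G))) = 1 from Subtype.ext hvv, map_one]
        have h1 : (y * w * y⁻¹) * (y * w * y⁻¹) = 1 := by
          rw [show y * w * y⁻¹ * (y * w * y⁻¹) = y * (w * w) * y⁻¹ by group, hww, mul_one,
            mul_inv_cancel]
        rw [show y * w * y⁻¹ = w * z by rw [hzdef]; group] at h1
        rw [pow_two]
        calc z * z = w⁻¹ * (w * z) * z := by group
          _ = w⁻¹ * (z * w) * z := by rw [mem_center_iff.1 hz w]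
          _ = w⁻¹ * w⁻¹ * ((w * z) * (w * z)) := by group
          _ = 1 := by rw [h1, mul_one, ← mul_inv_rev, hww, inv_one]
      have hz1 : z = 1 := by
        have := Nat.dvd_gcd (orderOf_dvd_of_pow_eq_one hzo) (orderOf_dvd_of_pow_eq_one hz2)
        rw [Nat.Coprime.gcd_eq_one (Nat.coprime_two_right.2 hyodd), Nat.dvd_one,
          orderOf_eq_one_iff] at this
        exact this
      have h1 := hpow 1
      rw [pow_one, pow_one, hz1, mul_one, mul_inv_eq_iff_eq_mul] at h1
      exact h1.symm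
    refine hful (le_antisymm hCTle ?_)
    rw [← hy0gen]
    refine sup_le ?_ h.V_le_CT
    rw [Subgroup.commutator_le]
    rintro x ⟨t, ht, rfl⟩ u hu
    obtain ⟨i, rfl⟩ := mem_zpowers_iff.1 hu
    rw [← hy, ← map_zpow, ← map_commutatorElement]
    refine mem_map_of_mem _ (h.mem_CT ?_ fun v hv => ?_)
    · rw [commutatorElement_def, show t * y ^ i * t⁻¹ * (y ^ i)⁻¹ =
        t * (y ^ i * t⁻¹ * (y ^ i)⁻¹) by group]
      refine mul_mem ht (h.norm_lift ?_ (inv_mem ht))
      rw [map_zpow, hy]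
      exact zpow_mem hy0N i
    · set w := h.loc.im v hv.2
      have hyi : Commute w (y ^ i) := (hyB v hv).zpow_right i
      -- `t` moves `w` by a central element
      have hwV : mk w ∈ V := h.V_mem.2 ⟨v, hv, rfl⟩
      have hc : Commute (mk t) (mk w) :=
        mem_centralizer_iff.1 (h.data.central hwV) _ (h.mk_mem ht)
      have hz : w⁻¹ * (t⁻¹ * w * t) ∈ center ↥L := (QuotientGroup.eq_one_iff _).1
        (show mk (w⁻¹ * (t⁻¹ * w * t)) = 1 by
          rw [map_mul, map_mul, map_mul, map_inv, map_inv, mul_assoc (mk t)⁻¹, ← hc.eq,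
            inv_mul_cancel_left, inv_mul_cancel])
      set z := w⁻¹ * (t⁻¹ * w * t) with hzdef
      have e1 : t⁻¹ * w * t = w * z := by rw [hzdef]; group
      have hzc : ∀ g : L, g * z = z * g := fun g => mem_center_iff.1 hz g
      have e2 : (y ^ i)⁻¹ * w * y ^ i = w := by rw [mul_assoc, hyi.eq, inv_mul_cancel_left]
      have e3 : t * w * t⁻¹ = w * z⁻¹ := by
        have h4 : t * (t⁻¹ * w * t) * t⁻¹ = t * (w * z) * t⁻¹ := by rw [e1]
        have h5 : w = t * w * t⁻¹ * z := by
          calc w = t * (t⁻¹ * w * t) * t⁻¹ := by group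
            _ = t * (w * z) * t⁻¹ := h4
            _ = t * w * (z * t⁻¹) := by group
            _ = t * w * (t⁻¹ * z) := by rw [hzc t⁻¹]
            _ = _ := by group
        exact eq_mul_inv_of_mul_eq h5.symm
      show w * ⁅t, y ^ i⁆ = ⁅t, y ^ i⁆ * w
      symm
      rw [commutatorElement_def]
      have hstep : t⁻¹ * ((y ^ i)⁻¹ * w * y ^ i) * t = w * z := by rw [e2, e1]
      calc t * y ^ i * t⁻¹ * (y ^ i)⁻¹ * w
          = t * y ^ i * (t⁻¹ * ((y ^ i)⁻¹ * w * y ^ i) * t) * (t⁻¹ * (y ^ i)⁻¹) := by group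
        _ = t * y ^ i * (w * z) * (t⁻¹ * (y ^ i)⁻¹) := by rw [hstep]
        _ = t * (y ^ i * w) * (z * (t⁻¹ * (y ^ i)⁻¹)) := by group
        _ = t * (w * y ^ i) * ((t⁻¹ * (y ^ i)⁻¹) * z) := by rw [hyi.eq, hzc]
        _ = (t * w * t⁻¹) * (t * y ^ i * t⁻¹ * (y ^ i)⁻¹ * z) := by group
        _ = w * (z⁻¹ * (t * y ^ i * t⁻¹ * (y ^ i)⁻¹ * z)) := by rw [e3, mul_assoc w]
        _ = w * (t * y ^ i * t⁻¹ * (y ^ i)⁻¹) := by
          rw [hzc (t * y ^ i * t⁻¹ * (y ^ i)⁻¹), inv_mul_cancel_left]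
  · -- the kernel is invariant under the normaliser
    suffices hN : normalizer (((T : Subgroup L).map mk : Subgroup (Quot L)) : Set (Quot L)) ≤
        normalizer ((h.CT.map mk : Subgroup (Quot L)) : Set (Quot L)) by
      rcases h.data.irred _ h.V_le_CT hCTle hN with e | e
      · exact Or.inr ⟨hsq, e⟩
      · exact Or.inl (hful e)
    intro y0 hy0
    obtain ⟨y, rfl⟩ := QuotientGroup.mk'_surjective (center ↥L) y0
    refine Coprime.mem_normalizer_of_map_conj (eq_of_le_of_card_ge ?_ (by rw [Coprime.card_map_conj]))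
    rintro _ ⟨_, ⟨c, hc, rfl⟩, rfl⟩
    show mk y * mk c * (mk y)⁻¹ ∈ _
    rw [← map_inv, ← map_mul, ← map_mul]
    refine mem_map_of_mem _ (h.mem_CT (h.norm_lift hy0 hc.1) fun v hv => ?_)
    -- `y⁻¹ v y` is in the piece up to the centre
    set w := h.loc.im v hv.2
    have hyV : mk (y⁻¹ * w * y) ∈ V := by
      have hwV : mk w ∈ V := h.V_mem.2 ⟨v, hv, rfl⟩
      obtain ⟨h1, h2⟩ := (h.data.mem_iff _).1 hwV
      refine (h.data.mem_iff _).2 ⟨?_, ?_⟩
      · rw [map_mul, map_mul, map_inv]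
        exact (mem_normalizer_iff''.1 hy0 _).1 h1
      · rw [map_mul, map_mul, map_inv, show (mk y)⁻¹ * mk w * mk y * ((mk y)⁻¹ * mk w * mk y) =
          (mk y)⁻¹ * (mk w * mk w) * mk y by group, h2, mul_one, inv_mul_cancel]
    obtain ⟨v', hv', e⟩ := h.V_mem.1 hyV
    have hz : (h.loc.im v' hv'.2)⁻¹ * (y⁻¹ * w * y) ∈ center ↥L := (QuotientGroup.eq_one_iff _).1
      (show mk _ = 1 by rw [map_mul, map_inv, e, inv_mul_cancel])
    have hcm : Commute (y⁻¹ * w * y) c := by
      have h1 : Commute ((h.loc.im v' hv'.2)⁻¹ * (y⁻¹ * w * y)) c := (mem_center_iff.1 hz c).symm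
      have h2 := (h.comm_of_CT hc hv').mul_left h1
      rwa [mul_inv_cancel_left] at h2
    have := (Commute.map hcm (MulAut.conj y).toMonoidHom)
    simpa [mul_assoc] using this

end NLoc

end Cfsg.Agent.H18.WA
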