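import Cfsg.Agent.H18.WA.SingerField
import Cfsg.Agent.H77.WA.Defs

/-! The Singer facts of the strongly closed abelian programme. -/

set_option autoImplicit false

namespace Cfsg.Agent.H18.WA

universe u

/-- `H77.WA.SingerFacts` holds. -/
theorem singerFacts : H77.WA.SingerFacts.{u} := by
  intro V _ _ hV c hc P hP hn
  exact singer hV c hc P hP hn

end Cfsg.Agent.H18.WA
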