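import Mathlib

/-!
A 2-group of automorphisms of an elementary abelian 2-group normalising a cyclic group transitive
on the nonidentity elements: it is cyclic, and its involutions fix a subgroup of square root order.
-/

set_option autoImplicit false

namespace Cfsg.Agent.H18.WA

universe u

variable {V : Type u} [CommGroup V]

variable (V) in
/-- The endomorphism of the additive copy given by an automorphism. -/
def toEnd : MulAut V →* AddMonoid.End (Additive V) where
  toFun φ := MonoidHom.toAdditive φ.toMonoidHom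
  map_one' := rfl
  map_mul' _ _ := rfl

lemma toEnd_apply (φ : MulAut V) (v : V) :
    toEnd V φ (Additive.ofMul v) = Additive.ofMul (φ v) := rfl

lemma toEnd_apply' (φ : MulAut V) (v : Additive V) :
    toEnd V φ v = Additive.ofMul (φ (Additive.toMul v)) := rfl

/-- The subring spanned by `c`. -/
def singerRing (c : MulAut V) : Subring (AddMonoid.End (Additive V)) :=
  Subring.closure {toEnd V c}

lemma mem_singerRing (c : MulAut V) : toEnd V c ∈ singerRing c := Subring.subset_closure rfl

lemma singerRing_comm (c : MulAut V) (a b : singerRing c) : a * b = b * a := by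
  letI : CommRing (singerRing c) := Subring.closureCommRingOfComm
    (s := ({toEnd V c} : Set (AddMonoid.End (Additive V)))) (by rintro a rfl b rfl; rfl)
  exact mul_comm a b

lemma conj_mem {c p : MulAut V} [Finite V] (hp : p ∈ Subgroup.normalizer
    (Subgroup.zpowers c : Set (MulAut V))) {a : AddMonoid.End (Additive V)} (ha : a ∈ singerRing c) :
    toEnd V p * a * toEnd V p⁻¹ ∈ singerRing c := by
  haveI : Finite (MulAut V) := Finite.of_injective _ DFunLike.coe_injective
  have h1 : toEnd V p * toEnd V p⁻¹ = 1 := by rw [← map_mul, mul_inv_cancel, map_one]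
  have h2 : toEnd V p⁻¹ * toEnd V p = 1 := by rw [← map_mul, inv_mul_cancel, map_one]
  induction ha using Subring.closure_induction with
  | mem a ha =>
    obtain rfl := Set.mem_singleton_iff.1 ha
    have hm : p * c * p⁻¹ ∈ Subgroup.zpowers c :=
      (Subgroup.mem_normalizer_iff.1 hp c).1 (Subgroup.mem_zpowers c)
    obtain ⟨k, hk⟩ := (mem_powers_iff_mem_zpowers).2 hm
    rw [← map_mul, ← map_mul, ← hk, map_pow]
    exact pow_mem (mem_singerRing c) k
  | zero => rw [mul_zero, zero_mul]; exact zero_mem _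
  | one => rw [mul_one, h1]; exact one_mem _
  | add a b _ _ ha hb => rw [mul_add, add_mul]; exact add_mem ha hb
  | neg a _ ha =>
    have : toEnd V p * -a * toEnd V p⁻¹ = -(toEnd V p * a * toEnd V p⁻¹) :=
      AddMonoidHom.ext fun w => map_neg (toEnd V p) _
    rw [this]; exact neg_mem ha
  | mul a b _ _ ha hb =>
    have : toEnd V p * (a * b) * toEnd V p⁻¹ =
        toEnd V p * a * toEnd V p⁻¹ * (toEnd V p * b * toEnd V p⁻¹) := by
      simp only [mul_assoc]
      rw [← mul_assoc (toEnd V p⁻¹) (toEnd V p), h2, one_mul]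
    rw [this]; exact mul_mem ha hb

/-- The statement. -/
theorem singer [Finite V] (hV : ∀ v : V, v * v = 1) (c : MulAut V)
    (hc : ∀ v w : V, v ≠ 1 → w ≠ 1 → ∃ k : ℕ, (c ^ k) v = w)
    (P : Subgroup (MulAut V)) (hP : IsPGroup 2 P)
    (hn : P ≤ Subgroup.normalizer (Subgroup.zpowers c : Set (MulAut V))) :
    IsCyclic P ∧ ∀ t ∈ P, t ≠ 1 → t * t = 1 → {v : V | t v = v}.ncard ^ 2 = Nat.card V := by
  classical
  haveI : Finite (MulAut V) := Finite.of_injective _ DFunLike.coe_injective
  rcases subsingleton_or_nontrivial V with hs | hnt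
  · have h1 : ∀ t : MulAut V, t = 1 := fun t => MulEquiv.ext fun v => Subsingleton.elim _ _
    haveI : Subsingleton P := ⟨fun a b => Subtype.ext ((h1 a.1).trans (h1 b.1).symm)⟩
    exact ⟨isCyclic_of_subsingleton, fun t _ ht _ => absurd (h1 t) ht⟩
  haveI : Fact (Nat.Prime 2) := ⟨Nat.prime_two⟩
  obtain ⟨v1, hv1⟩ := exists_ne (1 : V)
  -- a common fixed point
  obtain ⟨v0, hv0, hfix⟩ : ∃ v0 : V, v0 ≠ 1 ∧ ∀ p ∈ P, p v0 = v0 := by
    letI : MulAction P V :=
      { smul := fun p v => p.1 v
        one_smul := fun _ => rfl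
        mul_smul := fun _ _ _ => rfl }
    have h2 : 2 ∣ Nat.card V := by
      have := orderOf_dvd_natCard v1
      rwa [orderOf_eq_prime (p := 2) (by rw [pow_two]; exact hV v1) hv1] at this
    obtain ⟨b, hb, hb1⟩ := hP.exists_fixed_point_of_prime_dvd_card_of_fixed_point V h2
      (a := (1 : V)) (fun p => map_one p.1)
    exact ⟨b, Ne.symm hb1, fun p hp => hb ⟨p, hp⟩⟩
  set F := singerRing c
  haveI : Finite (AddMonoid.End (Additive V)) := Finite.of_injective _ DFunLike.coe_injective
  have hkill : ∀ (a : F) (v : V), v ≠ 1 → a.1 (Additive.ofMul v) = 0 → a = 0 := by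
    intro a v hv h
    refine Subtype.ext (AddMonoidHom.ext fun w => ?_)
    by_cases hw : Additive.toMul w = 1
    · rw [show w = 0 from Additive.toMul.injective hw]; exact map_zero _
    obtain ⟨k, hk⟩ := hc v _ hv hw
    have hcom := DFunLike.congr_fun (congrArg Subtype.val
      (singerRing_comm c a ⟨toEnd V (c ^ k), by rw [map_pow]; exact pow_mem (mem_singerRing c) k⟩))
      (Additive.ofMul v)
    have h3 : a.1 (toEnd V (c ^ k) (Additive.ofMul v)) =
        toEnd V (c ^ k) (a.1 (Additive.ofMul v)) := hcom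
    rw [h, map_zero, toEnd_apply, hk] at h3
    exact h3
  haveI : Nontrivial F := ⟨0, 1, fun h => hv0 (by
    have := DFunLike.congr_fun (congrArg Subtype.val h) (Additive.ofMul v0)
    exact (Additive.ofMul.injective this).symm)⟩
  haveI : NoZeroDivisors F := ⟨fun {a b} h => by
    by_cases hb : b.1 (Additive.ofMul v0) = 0
    · exact Or.inr (hkill b v0 hv0 hb)
    · exact Or.inl (hkill a (Additive.toMul (b.1 (Additive.ofMul v0))) (fun e => hb (Additive.toMul.injective e))
        (DFunLike.congr_fun (congrArg Subtype.val h) (Additive.ofMul v0)))⟩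
  haveI : IsDomain F := NoZeroDivisors.to_isDomain F
  letI : Field F := (Finite.isDomain_to_isField F).toField
  haveI : CharP F 2 := (CharP.charP_iff_prime_eq_zero Nat.prime_two).2 (by
    rw [Nat.cast_ofNat, ← one_add_one_eq_two]
    exact Subtype.ext (AddMonoidHom.ext fun w => congrArg Additive.ofMul (hV (Additive.toMul w))))
  letI : Algebra (ZMod 2) F := ZMod.algebra _ 2
  -- evaluation
  let ev : F → V := fun a => Additive.toMul (a.1 (Additive.ofMul v0))
  have hev : Function.Bijective ev := by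
    refine ⟨fun a b h => sub_eq_zero.1 (hkill (a - b) v0 hv0 ?_), fun w => ?_⟩
    · show a.1 (Additive.ofMul v0) - b.1 (Additive.ofMul v0) = 0
      rw [sub_eq_zero]; exact Additive.toMul.injective h
    · by_cases hw : w = 1
      · exact ⟨0, by rw [hw]; rfl⟩
      · obtain ⟨k, hk⟩ := hc v0 w hv0 hw
        exact ⟨⟨toEnd V (c ^ k), by rw [map_pow]; exact pow_mem (mem_singerRing c) k⟩, hk⟩
  -- the Galois action
  have hmul1 : ∀ p : MulAut V, toEnd V p⁻¹ * toEnd V p = 1 := fun p => by
    rw [← map_mul, inv_mul_cancel, map_one]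
  have hmul2 : ∀ p : MulAut V, toEnd V p * toEnd V p⁻¹ = 1 := fun p => by
    rw [← map_mul, mul_inv_cancel, map_one]
  let ρ : P → (F ≃+* F) := fun p =>
    { toFun := fun a => ⟨toEnd V p.1 * a.1 * toEnd V p.1⁻¹, conj_mem (hn p.2) a.2⟩
      invFun := fun a => ⟨toEnd V p.1⁻¹ * a.1 * toEnd V p.1, by
        have := conj_mem (hn (P.inv_mem p.2)) a.2
        rwa [inv_inv] at this⟩
      left_inv := fun a => Subtype.ext (by
        show toEnd V p.1⁻¹ * (toEnd V p.1 * a.1 * toEnd V p.1⁻¹) * toEnd V p.1 = a.1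
        simp only [mul_assoc, hmul1, mul_one]
        rw [← mul_assoc, hmul1, one_mul])
      right_inv := fun a => Subtype.ext (by
        show toEnd V p.1 * (toEnd V p.1⁻¹ * a.1 * toEnd V p.1) * toEnd V p.1⁻¹ = a.1
        simp only [mul_assoc, hmul2, mul_one]
        rw [← mul_assoc, hmul2, one_mul])
      map_mul' := fun a b => Subtype.ext (by
        show toEnd V p.1 * (a.1 * b.1) * toEnd V p.1⁻¹ =
          toEnd V p.1 * a.1 * toEnd V p.1⁻¹ * (toEnd V p.1 * b.1 * toEnd V p.1⁻¹)
        simp only [mul_assoc]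
        rw [← mul_assoc (toEnd V p.1⁻¹) (toEnd V p.1), hmul1, one_mul])
      map_add' := fun a b => Subtype.ext (by
        show toEnd V p.1 * (a.1 + b.1) * toEnd V p.1⁻¹ = _
        rw [mul_add, add_mul]; rfl) }
  let π : P →* (F ≃ₐ[ZMod 2] F) := MonoidHom.mk'
    (fun p => AlgEquiv.ofRingEquiv (f := ρ p) (fun a => RingHom.congr_fun (RingHom.ext_zmod
      ((ρ p).toRingHom.comp (algebraMap (ZMod 2) F)) (algebraMap (ZMod 2) F)) a))
    (fun p q => AlgEquiv.ext fun a => Subtype.ext (by
      show toEnd V (p.1 * q.1) * a.1 * toEnd V (p.1 * q.1)⁻¹ =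
        toEnd V p.1 * (toEnd V q.1 * a.1 * toEnd V q.1⁻¹) * toEnd V p.1⁻¹
      simp only [mul_inv_rev, map_mul, mul_assoc]))
  have hequiv : ∀ (p : P) (a : F), ev (π p a) = p.1 (ev a) := by
    intro p a
    show p.1 (Additive.toMul (a.1 (Additive.ofMul ((p.1⁻¹ : MulAut V) v0)))) = p.1 (ev a)
    rw [hfix _ (P.inv_mem p.2)]
  have hπ : Function.Injective π := (injective_iff_map_eq_one π).2 fun p hp => by
    apply Subtype.ext
    refine MulEquiv.ext fun w => ?_
    obtain ⟨a, rfl⟩ := hev.2 w
    rw [← hequiv, hp]; rfl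
  refine ⟨isCyclic_of_injective π hπ, fun t ht ht1 htt => ?_⟩
  -- the fixed points
  set σ := π ⟨t, ht⟩
  let F0 : Subfield F := (σ : F →+* F).eqLocusField (RingHom.id F)
  have hF0 : ∀ a, a ∈ F0 ↔ t (ev a) = ev a := fun a => by
    rw [show (a ∈ F0) = (σ a = a) from rfl, ← hequiv ⟨t, ht⟩ a]
    exact ⟨fun h => by rw [h], fun h => hev.1 h⟩
  let X : Subgroup V :=
    { carrier := {v | t v = v}
      mul_mem' := fun {a b} ha hb => by simp only [Set.mem_setOf_eq] at *; rw [map_mul, ha, hb]
      one_mem' := map_one t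
      inv_mem' := fun {a} ha => by simp only [Set.mem_setOf_eq] at *; rw [map_inv, ha] }
  have hX : {v : V | t v = v}.ncard = Nat.card X := rfl
  have hF0X : Nat.card F0 = Nat.card X := Nat.card_eq_of_bijective
    (fun a : F0 => (⟨ev a.1, (hF0 a.1).1 a.2⟩ : X))
    ⟨fun a b h => Subtype.ext (hev.1 (congrArg Subtype.val h)), fun x => by
      obtain ⟨a, ha⟩ := hev.2 x.1
      exact ⟨⟨a, (hF0 a).2 (by rw [ha]; exact x.2)⟩, Subtype.ext ha⟩⟩
  have hFV : Nat.card F = Nat.card V := Nat.card_eq_of_bijective ev hev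
  -- at most a square
  let D : V →* V := MonoidHom.mk' (fun v => t v * v) (fun a b => by
    rw [map_mul, mul_mul_mul_comm])
  have hle : Nat.card V ≤ Nat.card X ^ 2 := by
    have hker : D.ker = X := by
      ext v
      show t v * v = 1 ↔ t v = v
      rw [mul_eq_one_iff_eq_inv, inv_eq_of_mul_eq_one_left (hV v)]
    have hrange : D.range ≤ X := by
      rintro _ ⟨v, rfl⟩
      show t (t v * v) = t v * v
      rw [map_mul, show t (t v) = v from (DFunLike.congr_fun htt v : (t * t) v = (1 : MulAut V) v),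
        mul_comm]
    have h1 := Subgroup.card_eq_card_quotient_mul_card_subgroup D.ker
    rw [Nat.card_congr (QuotientGroup.quotientKerEquivRange D).toEquiv, hker] at h1
    rw [h1, pow_two]
    exact Nat.mul_le_mul_right _ (Nat.le_of_dvd Nat.card_pos (Subgroup.card_dvd_of_le hrange))
  have hge : Nat.card X ^ 2 ≤ Nat.card V := by
    rw [← hF0X, ← hFV, Module.natCard_eq_pow_finrank (K := F0) (V := F)]
    refine Nat.pow_le_pow_right Nat.card_pos ?_
    by_contra hlt
    have h1 : Module.finrank F0 F = 1 := by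
      have := Module.finrank_pos (R := F0) (M := F)
      omega
    have h2 : Nat.card F0 = Nat.card F := by
      rw [Module.natCard_eq_pow_finrank (K := F0) (V := F), h1, pow_one]
    have h3 : X = ⊤ := (Subgroup.card_eq_iff_eq_top X).1 (by rw [← hF0X, h2, hFV])
    exact ht1 (MulEquiv.ext fun w => show w ∈ X by rw [h3]; trivial)
  rw [hX]
  exact le_antisymm hge hle

end Cfsg.Agent.H18.WA
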