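import Cfsg.Agent.H18.WA.Pieces

/-!
The twist step: every met component of a minimal counterexample is simple and untwisted.
-/

set_option autoImplicit false
set_option linter.unusedSectionVars false
set_option linter.style.haveILetI false

namespace Cfsg.Agent.H18.WA

open Subgroup Cfsg.Agent
open Cfsg.Agent.H88.Walter (Bb pre cen vp qp mem_pre pre_le pre_mono)
open Cfsg.Agent.H21.Walter (coreImage coreProj)
open Cfsg.Agent.H10.Walter (AbSyl)
open Cfsg.Agent.H77.WA (Cfg CMet Met Quot Struct NData Untwisted Clean)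
open scoped commutatorElement

universe u

variable {G : Type u} [Group G] [Finite G] {S : Sylow 2 G} {A : Subgroup G}

/-- The conjugates of a proper kernel meet trivially. -/
theorem exists_not_mem_conj (hcfg : Cfg S A) {Q : Subgroup G} (hQA : Q ≤ A) (hQ : Q ≠ A) {z : G}
    (hz1 : z ≠ 1) : ∃ n ∈ normalizer (A : Set G), z ∉ Q.map (MulAut.conj n).toMonoidHom := by
  by_contra hc
  push Not at hc
  set B : Subgroup G := ⨅ n : normalizer (A : Set G), Q.map (MulAut.conj n.1).toMonoidHom with hB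
  have hle : B ≤ Q := (iInf_le _ (1 : normalizer (A : Set G))).trans (by
    rintro _ ⟨x, hx, rfl⟩
    simpa using hx)
  have hinv : normalizer (A : Set G) ≤ normalizer (B : Set G) := by
    intro n hn
    refine Coprime.mem_normalizer_of_map_conj (eq_of_le_of_card_ge ?_ (by rw [Coprime.card_map_conj]))
    rintro _ ⟨x, hx, rfl⟩
    refine mem_iInf.2 fun m => ?_
    obtain ⟨y, hy, e⟩ := mem_iInf.1 hx ⟨n⁻¹ * m.1, mul_mem (inv_mem hn) m.2⟩
    refine ⟨y, hy, ?_⟩
    show m.1 * y * m.1⁻¹ = n * x * n⁻¹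
    rw [← e]
    show _ = n * (n⁻¹ * m.1 * y * (n⁻¹ * m.1)⁻¹) * n⁻¹
    group
  rcases hcfg.irred B (hle.trans hQA) hinv with h | h
  · exact hz1 (mem_bot.1 (h ▸ mem_iInf.2 fun m => hc m.1 m.2))
  · exact hQ (le_antisymm hQA (h ▸ hle))

theorem relIndex_conj {n : G} (hn : n ∈ normalizer (A : Set G)) (Q : Subgroup G) :
    (Q.map (MulAut.conj n).toMonoidHom).relIndex A = Q.relIndex A := by
  have hA : A.map (MulAut.conj n).toMonoidHom = A := by
    refine eq_of_le_of_card_ge ?_ (by rw [Coprime.card_map_conj])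
    rintro _ ⟨x, hx, rfl⟩
    exact (mem_normalizer_iff.1 hn x).1 hx
  conv_lhs => rw [← hA]
  exact Subgroup.relIndex_map_map_of_injective _ _ (MulAut.conj n).injective

theorem not_absyl_of_equiv {X Y : Type u} [Group X] [Finite X] [Group Y] (e : Y ≃* X)
    (hX : ¬ AbSyl X) : ¬ AbSyl Y := fun hY =>
  haveI : Finite Y := Finite.of_equiv X e.symm.toEquiv
  hX (hY.surj e.toMonoidHom e.surjective)

/-- A fixed point gives the image of a component. -/
theorem conj_fixed (hconj : H77.WA.ConjFacts.{u}) {t r : G} (ht : t ∈ normalizer (A : Set G))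
    (hr : t * r * t⁻¹ = r) {J : Subgroup (Bb r)} (hJ : CMet A r J) :
    ∃ J' : Subgroup (Bb r), CMet A r J' ∧
      vp A r J' = (vp A r J).map (MulAut.conj t).toMonoidHom ∧
      qp A r J' = (qp A r J).map (MulAut.conj t).toMonoidHom ∧
      pre r J' = (pre r J).map (MulAut.conj t).toMonoidHom := by
  have key : ∀ c : G, c = r → (∃ L' : Subgroup (Bb c), CMet A c L' ∧
        vp A c L' = (vp A r J).map (MulAut.conj t).toMonoidHom ∧
        qp A c L' = (qp A r J).map (MulAut.conj t).toMonoidHom ∧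
        pre c L' = (pre r J).map (MulAut.conj t).toMonoidHom) →
      ∃ J' : Subgroup (Bb r), CMet A r J' ∧
        vp A r J' = (vp A r J).map (MulAut.conj t).toMonoidHom ∧
        qp A r J' = (qp A r J).map (MulAut.conj t).toMonoidHom ∧
        pre r J' = (pre r J).map (MulAut.conj t).toMonoidHom := by
    rintro c rfl h
    exact h
  obtain ⟨J', h1, h2, h3, h4, -⟩ := hconj G A t ht r J hJ
  exact key _ hr ⟨J', h1, h2, h3, h4⟩

/-- An element fixing a component and the kernel, of order two on `A`, acts trivially on a piece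
of non-square order. -/
theorem trivial_on_piece (hsf : H77.WA.SingerFacts.{u}) {r : G} {J : Subgroup (Bb r)}
    {R : Subgroup G} {T : Sylow 2 J} {V : Subgroup (Quot J)} (h : NLoc S A r J R T V) {t : G}
    (ht : t ∈ R) (hpre : ∀ x ∈ pre r J, t * x * t⁻¹ ∈ pre r J)
    (ht2 : ∀ v ∈ vp A r J, t * t * v * (t * t)⁻¹ = v)
    (hns : ∀ k : ℕ, Nat.card V ≠ k ^ 2) :
    ∀ v ∈ vp A r J, t * v * t⁻¹ * v⁻¹ ∈ qp A r J := by
  classical
  have htb : t ∈ centralizer ({r} : Set G) := h.loc.cent ht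
  let τ : Bb r := coreProj r ⟨t, htb⟩
  have hτ : ∀ x : J, τ * x.1 * τ⁻¹ ∈ J := by
    rintro ⟨x, hx⟩
    obtain ⟨⟨s, hs⟩, rfl⟩ := H88.Walter.coreProj_surjective r x
    obtain ⟨hs', hm⟩ := mem_pre.1 (hpre s (mem_pre.2 ⟨hs, hx⟩))
    rw [← map_mul, ← map_inv, ← map_mul]
    exact hm
  let αm : J →* J :=
    MonoidHom.mk' (fun x => ⟨τ * x.1 * τ⁻¹, hτ x⟩) fun x y => Subtype.ext (by
      show τ * (x.1 * y.1) * τ⁻¹ = τ * x.1 * τ⁻¹ * (τ * y.1 * τ⁻¹)
      group)
  have hαinj : Function.Injective αm := fun x y hxy => Subtype.ext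
    (mul_left_cancel (mul_right_cancel (congrArg Subtype.val hxy)))
  let α : MulAut J := MulEquiv.ofBijective αm ⟨hαinj, Finite.injective_iff_surjective.1 hαinj⟩
  have hαc : (center ↥J).map α.toMonoidHom = center ↥J :=
    Subgroup.characteristic_iff_map_eq.1 inferInstance α
  let φ : MulAut (Quot J) := QuotientGroup.congr (center ↥J) (center ↥J) α hαc
  have hφ : ∀ x : J, φ (QuotientGroup.mk' (center ↥J) x) = QuotientGroup.mk' (center ↥J) (α x) :=
    fun x => rfl
  have hαim : ∀ (x : G) (hx : x ∈ pre r J), α (h.loc.im x hx) = h.loc.im (t * x * t⁻¹) (hpre x hx) :=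
    fun x hx => Subtype.ext (by
      show τ * coreProj r ⟨x, _⟩ * τ⁻¹ = coreProj r ⟨t * x * t⁻¹, _⟩
      rw [← map_mul, ← map_inv, ← map_mul]; rfl)
  have hT : ∀ x ∈ (T : Subgroup J).map (QuotientGroup.mk' (center ↥J)),
      φ x ∈ (T : Subgroup J).map (QuotientGroup.mk' (center ↥J)) := by
    rintro _ ⟨y, hy, rfl⟩
    obtain ⟨s, hs, rfl⟩ := h.loc.exists_lift h.T_eq hy
    rw [hφ, hαim s hs.2]
    exact h.mk_mem (h.im_mem ⟨R.mul_mem (R.mul_mem ht hs.1) (R.inv_mem ht), hpre s hs.2⟩)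
  have hV : ∀ x ∈ V, φ x ∈ V := fun x hx => by
    obtain ⟨h1, h2⟩ := (h.data.mem_iff x).1 hx
    exact (h.data.mem_iff _).2 ⟨hT x h1, by rw [← map_mul, h2, map_one]⟩
  -- the group `V` and the two automorphisms
  letI : CommGroup V :=
    { (inferInstance : Group V) with
      mul_comm := fun a b => Subtype.ext
        (mem_centralizer_iff.1 (h.data.central b.2) a.1 ((h.data.mem_iff a.1).1 a.2).1) }
  obtain ⟨y, hyN, hyV, hytr, hyφ⟩ := h.data.singer
  obtain ⟨k, hk⟩ := hyφ φ hT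
  let cm : V →* V := MonoidHom.mk' (fun x => ⟨y * x.1 * y⁻¹, hyV x x.2⟩) fun a b => Subtype.ext (by
    show y * (a.1 * b.1) * y⁻¹ = y * a.1 * y⁻¹ * (y * b.1 * y⁻¹)
    group)
  have hcinj : Function.Injective cm := fun a b hab => Subtype.ext
    (mul_left_cancel (mul_right_cancel (congrArg Subtype.val hab)))
  let c : MulAut V := MulEquiv.ofBijective cm ⟨hcinj, Finite.injective_iff_surjective.1 hcinj⟩
  have hcpow : ∀ (i : ℕ) (x : V), ((c ^ i) x).1 = y ^ i * x.1 * (y ^ i)⁻¹ := by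
    intro i
    induction i with
    | zero => intro x; simp
    | succ i ih =>
      intro x
      rw [pow_succ', pow_succ']
      show y * ((c ^ i) x).1 * y⁻¹ = _
      rw [ih x]; group
  let fm : V →* V := MonoidHom.mk' (fun x => ⟨φ x.1, hV x x.2⟩)
    fun a b => Subtype.ext (map_mul φ a.1 b.1)
  have hfinj : Function.Injective fm := fun a b hab =>
    Subtype.ext (φ.injective (congrArg Subtype.val hab))
  let f : MulAut V := MulEquiv.ofBijective fm ⟨hfinj, Finite.injective_iff_surjective.1 hfinj⟩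
  have hf2 : f * f = 1 := MulEquiv.ext fun x => Subtype.ext (by
    obtain ⟨v, hv, hx⟩ := h.V_mem.1 x.2
    show φ (φ x.1) = x.1
    rw [← hx, hφ, hαim v hv.2, hφ, hαim _ (hpre v hv.2)]
    congr 1
    have e : t * (t * v * t⁻¹) * t⁻¹ = v := by
      calc t * (t * v * t⁻¹) * t⁻¹ = t * t * v * (t * t)⁻¹ := by group
        _ = v := ht2 v hv
    simp only [e])
  have hfc : f * c * f⁻¹ = c ^ k := MulEquiv.ext fun x => Subtype.ext (by
    show φ (y * (f⁻¹ x).1 * y⁻¹) = ((c ^ k) x).1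
    rw [hcpow, map_mul, map_mul, map_inv, show φ (f⁻¹ x).1 = x.1 from
      congrArg Subtype.val (f.apply_symm_apply x)]
    exact hk x.1 x.2)
  have hP : IsPGroup 2 ↥(zpowers f) := by
    rintro ⟨g, hg⟩
    obtain ⟨i, rfl⟩ := mem_zpowers_iff.1 hg
    refine ⟨1, Subtype.ext ?_⟩
    show (f ^ i) ^ 2 ^ 1 = 1
    rw [pow_one, pow_two, ← (Commute.refl f).mul_zpow, hf2, one_zpow]
  haveI : Finite (MulAut V) := Finite.of_injective _ DFunLike.coe_injective
  have hn : zpowers f ≤ normalizer (zpowers c : Set (MulAut V)) := zpowers_le.2 <| by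
    refine Coprime.mem_normalizer_of_map_conj (eq_of_le_of_card_ge ?_ (by rw [Coprime.card_map_conj]))
    rw [MonoidHom.map_zpowers, zpowers_le]
    show f * c * f⁻¹ ∈ zpowers c
    rw [hfc]
    exact pow_mem (mem_zpowers c) k
  have hsing := (hsf V (fun x => Subtype.ext ((h.data.mem_iff x.1).1 x.2).2) c
    (fun a b ha hb => by
      obtain ⟨i, hi⟩ := hytr a.1 a.2 b.1 b.2 (fun e => ha (Subtype.ext e))
        (fun e => hb (Subtype.ext e))
      exact ⟨i, Subtype.ext ((hcpow i a).trans hi)⟩) (zpowers f) hP hn).2 f (mem_zpowers f)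
  have hf1 : f = 1 := by
    by_contra hne
    exact hns _ (hsing hne hf2).symm
  intro v hv
  have hvV : QuotientGroup.mk' (center ↥J) (h.loc.im v hv.2) ∈ V := h.V_mem.2 ⟨v, hv, rfl⟩
  have h1 : φ (QuotientGroup.mk' (center ↥J) (h.loc.im v hv.2)) =
      QuotientGroup.mk' (center ↥J) (h.loc.im v hv.2) :=
    congrArg Subtype.val (DFunLike.congr_fun hf1 (⟨_, hvV⟩ : V))
  rw [hφ, hαim v hv.2] at h1
  have hmem : t * v * t⁻¹ * v⁻¹ ∈ pre r J := mul_mem (hpre v hv.2) (inv_mem hv.2)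
  refine ⟨A.mul_mem (h.loc.conjA ht hv.1) (A.inv_mem hv.1), (h.loc.im_center_iff hmem).1 ?_⟩
  rw [h.loc.im_mul (hpre v hv.2) (inv_mem hv.2), h.loc.im_inv hv.2]
  refine (QuotientGroup.eq_one_iff _).1 ?_
  show QuotientGroup.mk' (center ↥J) _ = 1
  rw [map_mul, map_inv, h1, mul_inv_cancel]

/-- A twisted component is impossible. -/
theorem not_twisted (hcfg : Cfg S A) (htf : H77.WA.TypeFacts.{u}) (hsf : H77.WA.SingerFacts.{u})
    (hbar : H77.WA.BarStruct.{u}) (hconj : H77.WA.ConjFacts.{u}) (hlink : H77.WA.LinkFacts.{u})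
    {b : G} {L : Subgroup (Bb b)} {R : Subgroup G} {T : Sylow 2 L} {V : Subgroup (Quot L)}
    (h : NLoc S A b L R T V) (hns : ∀ k : ℕ, Nat.card V ≠ k ^ 2)
    (hCT : h.CT.map (QuotientGroup.mk' (center ↥L)) = V) (hab : ¬ AbSyl (Quot L)) :
    (T : Subgroup L) ≤ h.CT := by
  classical
  by_contra htw
  have hA := hcfg.elem
  set mk := QuotientGroup.mk' (center ↥L) with hmk
  obtain ⟨y1, hy1, hy1'⟩ := SetLike.not_le_iff_exists.1 htw
  -- a twisted commutator
  obtain ⟨t1, ht1, rfl⟩ := h.loc.exists_lift h.T_eq hy1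
  obtain ⟨v1, hv1, hnc⟩ : ∃ v ∈ vp A b L, ¬ Commute t1 v := by
    by_contra hc
    push Not at hc
    refine hy1' (h.mem_CT hy1 fun v hv => ?_)
    show h.loc.im v hv.2 * h.loc.im t1 ht1.2 = h.loc.im t1 ht1.2 * h.loc.im v hv.2
    rw [← h.loc.im_mul hv.2 ht1.2, ← h.loc.im_mul ht1.2 hv.2]
    simp only [(hc v hv).eq]
  set z := ⁅t1, v1⁆ with hzdef
  have hz1 : z ≠ 1 := fun e => hnc (commutatorElement_eq_one_iff_mul_comm.1 e)
  have hzA : z ∈ A := h.loc.commA ht1.1 hv1.1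
  have hzpre : z ∈ pre b L :=
    mul_mem (mul_mem (mul_mem ht1.2 hv1.2) (inv_mem ht1.2)) (inv_mem hv1.2)
  have hzcen : z ∈ cen b L := by
    refine (h.loc.im_center_iff hzpre).1 ?_
    have e : h.loc.im z hzpre = ⁅h.loc.im t1 ht1.2, h.loc.im v1 hv1.2⁆ :=
      Subtype.ext (proj_comm (h.loc.cR ht1) (h.loc.cA hv1.1))
    rw [e]
    refine (QuotientGroup.eq_one_iff _).1 ?_
    show mk _ = 1
    rw [map_commutatorElement, commutatorElement_eq_one_iff_mul_comm]
    exact mem_centralizer_iff.1 (h.data.central (h.V_mem.2 ⟨v1, hv1, rfl⟩)) _ (h.mk_mem hy1)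
  have hzvp : z ∈ vp A b L := ⟨hzA, hzpre⟩
  have hzqp : z ∈ qp A b L := ⟨hzA, hzcen⟩
  obtain ⟨n, hn, hzn⟩ := exists_not_mem_conj hcfg (show qp A b L ≤ A from inf_le_left) h.loc.qp_ne hz1
  -- the conjugate component
  obtain ⟨L', hL', -, hqp', -, ⟨iso⟩⟩ := hconj G A n hn b L h.loc.met
  have hab' : ¬ AbSyl (Quot L') := not_absyl_of_equiv iso hab
  set b' := n * b * n⁻¹ with hb'
  have hb'A : b' ∈ A := (mem_normalizer_iff.1 hn b).1 h.loc.hb
  have hb'1 : b' ≠ 1 := fun e => h.loc.hb1 (by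
    have := congrArg (fun w => n⁻¹ * w * n) e
    simpa [hb', mul_assoc] using this)
  rw [← hqp'] at hzn
  -- the kernels meet trivially
  have hRR : ∀ r, r ∈ qp A b L → r ∈ qp A b' L' → r = 1 := by
    intro r hr hr'
    by_contra hr1
    have hrc := le_centralizer_self hA hr.1
    have hr2 := orderOf_eq_two hA hr.1 hr1
    obtain ⟨J, hJ, hJvp, -, -, -, hJeq, hJn⟩ := hlink G S A hcfg b r
      (le_centralizer_self hA h.loc.hb) (orderOf_eq_two hA h.loc.hb h.loc.hb1) hrc hr2 L h.loc.met hr.2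
    obtain ⟨J', hJ', -, -, -, -, hJeq', hJn'⟩ := hlink G S A hcfg b' r
      (le_centralizer_self hA hb'A) (orderOf_eq_two hA hb'A hb'1) hrc hr2 L' hL' hr'.2
    have e1 := hJeq (hJn h.loc.hb hab).1
    have e2 := hJeq' (hJn' hb'A hab').1
    by_cases hJJ : J = J'
    · subst hJJ
      exact hzn (e2 ▸ e1.symm ▸ hzqp)
    · have hle : vp A r J ≤ qp A r J' := inf_le_inf le_rfl (pre_mono
        (commutator_eq_bot_iff_le_centralizer.1 (Components.components_commute hJ.1 hJ'.1 hJJ)))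
      exact hzn (e2 ▸ hle (hJvp hzvp))
  -- an element of the second kernel and its square root
  obtain ⟨r, hr, hr1⟩ : ∃ r ∈ qp A b' L', r ≠ 1 := by
    refine ⟨n * z * n⁻¹, hqp'.symm ▸ ⟨z, hzqp, rfl⟩, fun e => hz1 ?_⟩
    have := congrArg (fun w => n⁻¹ * w * n) e
    simpa [mul_assoc] using this
  obtain ⟨v, hv, q, hq, hvq⟩ := h.loc.decomp hr.1
  have hvV : mk (h.loc.im v hv.2) ∈ V := h.V_mem.2 ⟨v, hv, rfl⟩
  obtain ⟨x, ⟨y, hy, rfl⟩, hxx⟩ := h.data.sq_onto _ hvV
  obtain ⟨t, ht, rfl⟩ := h.loc.exists_lift h.T_eq hy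
  have hvne : v ∉ qp A b L := fun hvq' => hr1 (hRR r (hvq ▸ mul_mem hvq' hq) hr)
  have htA : t ∈ normalizer (A : Set G) := h.loc.normA ht.1
  have hz' : (h.loc.im t ht.2 * h.loc.im t ht.2)⁻¹ * h.loc.im v hv.2 ∈ center ↥L :=
    (QuotientGroup.eq_one_iff _).1 (show mk _ = 1 by rw [map_mul, map_inv, map_mul, hxx, inv_mul_cancel])
  have htv : Commute t v := by
    refine h.loc.comm_of_im ht hv ?_
    have h1 := ((Commute.refl (h.loc.im t ht.2)).mul_right (Commute.refl _)).mul_right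
      (mem_center_iff.1 hz' (h.loc.im t ht.2))
    rwa [mul_inv_cancel_left] at h1
  have htq : Commute t q := h.loc.qp_comm ht hq
  have htr : t * r * t⁻¹ = r := by
    rw [← hvq, (htv.mul_right htq).eq, mul_inv_cancel_right]
  have htt : t * t ∈ centralizer (A : Set G) := by
    have hmem : h.loc.im (t * t) (mul_mem ht.2 ht.2) ∈ h.CT := by
      have h1 : mk (h.loc.im (t * t) (mul_mem ht.2 ht.2)) ∈ h.CT.map mk := by
        rw [hCT, h.loc.im_mul ht.2 ht.2, map_mul, hxx]; exact hvV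
      obtain ⟨w, hw, e⟩ := h1
      have hz2 : w⁻¹ * h.loc.im (t * t) (mul_mem ht.2 ht.2) ∈ center ↥L :=
        (QuotientGroup.eq_one_iff _).1 (show mk _ = 1 by rw [map_mul, map_inv, e, inv_mul_cancel])
      have := mul_mem hw (h.center_le_CT hz2)
      rwa [mul_inv_cancel_left] at this
    exact h.loc.mem_centralizer_A ⟨mul_mem ht.1 ht.1, mul_mem ht.2 ht.2⟩ fun w hw =>
      h.loc.comm_of_im ⟨mul_mem ht.1 ht.1, mul_mem ht.2 ht.2⟩ hw (h.comm_of_CT hmem hw).symm
  have htnA : ∃ w ∈ vp A b L, ¬ Commute t w := by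
    by_contra hc
    push Not at hc
    have h1 : mk (h.loc.im t ht.2) ∈ V := by
      refine hCT.le (mem_map_of_mem mk (h.mem_CT hy fun w hw => ?_))
      show h.loc.im w hw.2 * h.loc.im t ht.2 = h.loc.im t ht.2 * h.loc.im w hw.2
      rw [← h.loc.im_mul hw.2 ht.2, ← h.loc.im_mul ht.2 hw.2]
      simp only [(hc w hw).eq]
    rw [((h.data.mem_iff _).1 h1).2] at hxx
    exact hvne ⟨hv.1, (h.loc.im_center_iff hv.2).1 ((QuotientGroup.eq_one_iff _).1 hxx.symm)⟩
  -- the component of the second kernel in `C(r)`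
  have hrc := le_centralizer_self hA hr.1
  have hr2 := orderOf_eq_two hA hr.1 hr1
  obtain ⟨J, hJ, -, -, -, -, hJeq, hJn⟩ := hlink G S A hcfg b' r
    (le_centralizer_self hA hb'A) (orderOf_eq_two hA hb'A hb'1) hrc hr2 L' hL' hr.2
  have hJqp : qp A r J = qp A b' L' := hJeq (hJn hb'A hab').1
  have hJab := (hJn hb'A hab').2
  have hindex : (qp A r J).relIndex A = (qp A b L).relIndex A := by
    rw [hJqp, hqp', relIndex_conj hn]
  obtain ⟨J2, hJ2, hJ2vp, hJ2qp, hJ2pre⟩ := conj_fixed hconj htA htr hJ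
  by_cases hJJ : J2 = J
  · -- `t` fixes the component
    subst hJJ
    obtain ⟨k, hk⟩ := h.loc.two ⟨t, ht.1⟩
    have hP := sup_zpowers_two hA htA ⟨k, by simpa using congrArg Subtype.val hk⟩
    have htr' : t ∈ centralizer ({r} : Set G) :=
      mem_centralizer_singleton_iff.2 (mul_inv_eq_iff_eq_mul.1 htr)
    obtain ⟨RJ, hPR, hlJ⟩ := exists_loc hcfg hbar hr.1 hr1 hJ hP
      (sup_le (le_cent hA hr.1) (zpowers_le.2 htr')) le_sup_left
    obtain ⟨TJ, VJ, hNJ⟩ := exists_nloc htf hlJ hJab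
    have hVJ : Nat.card VJ = Nat.card V := by rw [← hNJ.relIndex_A, hindex, h.relIndex_A]
    have htrel := trivial_on_piece hsf hNJ (hPR (mem_sup_right (mem_zpowers t)))
      (fun x hx => by
        rw [hJ2pre]
        exact ⟨x, hx, rfl⟩)
      (fun w hw => by rw [← mem_centralizer_iff.1 htt w hw.1, mul_inv_cancel_right])
      (by rw [hVJ]; exact hns)
    obtain ⟨w, hw, hwnc⟩ := htnA
    -- every commutator with `t` lies in the kernel
    obtain ⟨a, ha, q', hq', e⟩ := hlJ.decomp hw.1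
    have hc1 : t * w * t⁻¹ * w⁻¹ ∈ qp A r J2 := by
      have hq2 : t * q' * t⁻¹ ∈ qp A r J2 := by rw [hJ2qp]; exact ⟨q', hq', rfl⟩
      have e2 : t * (a * q') * t⁻¹ * (a * q')⁻¹ =
          t * a * t⁻¹ * a⁻¹ * (t * q' * t⁻¹ * q'⁻¹) := by
        have hac : t * q' * t⁻¹ * q'⁻¹ * a⁻¹ = a⁻¹ * (t * q' * t⁻¹ * q'⁻¹) :=
          ((commute_of_mem hA (mul_mem hq2.1 (inv_mem hq'.1)) (inv_mem ha.1))).eq
        calc t * (a * q') * t⁻¹ * (a * q')⁻¹ = t * a * t⁻¹ * (t * q' * t⁻¹ * q'⁻¹ * a⁻¹) := by group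
          _ = _ := by rw [hac]; group
      rw [← e, e2]
      exact mul_mem (htrel a ha) (mul_mem hq2 (inv_mem hq'))
    have hc2 : t * w * t⁻¹ * w⁻¹ ∈ qp A b L := by
      have hmem : t * w * t⁻¹ * w⁻¹ ∈ pre b L :=
        mul_mem (mul_mem (mul_mem ht.2 hw.2) (inv_mem ht.2)) (inv_mem hw.2)
      refine ⟨A.mul_mem (h.loc.conjA ht.1 hw.1) (A.inv_mem hw.1), (h.loc.im_center_iff hmem).1 ?_⟩
      have e3 : h.loc.im _ hmem = ⁅h.loc.im t ht.2, h.loc.im w hw.2⁆ :=
        Subtype.ext (proj_comm (h.loc.cR ht) (h.loc.cA hw.1))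
      rw [e3]
      refine (QuotientGroup.eq_one_iff _).1 ?_
      show mk _ = 1
      rw [map_commutatorElement, commutatorElement_eq_one_iff_mul_comm]
      exact mem_centralizer_iff.1 (h.data.central (h.V_mem.2 ⟨w, hw, rfl⟩)) _ (h.mk_mem hy)
    exact hwnc (commutatorElement_eq_one_iff_mul_comm.1 (hRR _ hc2 (hJqp ▸ hc1)))
  · -- `t` moves the component: too many commutators
    have hle : vp A r J2 ≤ qp A r J := inf_le_inf le_rfl (pre_mono
      (commutator_eq_bot_iff_le_centralizer.1 (Components.components_commute hJ2.1 hJ.1 hJJ)))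
    haveI : ∀ H K : Subgroup G, H.IsFiniteRelIndex K := fun H K =>
      Subgroup.isFiniteRelIndex_of_finiteIndex
    set CA := A ⊓ centralizer ({t} : Set G) with hCA
    have hfix : CA ⊓ vp A r J ≤ qp A r J := fun w hw => by
      have e : t * w * t⁻¹ = w :=
        mul_inv_eq_iff_eq_mul.2 (mem_centralizer_singleton_iff.1 hw.1.2).symm
      exact hle (hJ2vp ▸ ⟨w, hw.2, e⟩)
    obtain ⟨RJ, -, hlJ⟩ := exists_loc hcfg hbar hr.1 hr1 hJ
      (show IsPGroup 2 A from fun a => ⟨1, Subtype.ext (by simpa using hA.2 a.1 a.2)⟩)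
      (le_cent hA hr.1) le_rfl
    have h1 : (qp A r J).relIndex A ≤ CA.relIndex A := by
      have e1 : (qp A r J).relIndex A = (qp A r J).relIndex (vp A r J) := by
        haveI : ((qp A r J).subgroupOf A).Normal := ⟨fun x hx g => by
          rwa [show g * x * g⁻¹ = x from Subtype.ext (by
            show g.1 * x.1 * g.1⁻¹ = x.1
            rw [(commute_of_mem hA g.2 x.2).eq, mul_inv_cancel_right])]⟩
        have h1 := relIndex_sup_right (H := (vp A r J).subgroupOf A) (K := (qp A r J).subgroupOf A)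
        rwa [← subgroupOf_sup (show vp A r J ≤ A from inf_le_left)
          (show qp A r J ≤ A from inf_le_left), hlJ.vp_sup_qp, relIndex_subgroupOf le_rfl,
          relIndex_subgroupOf (show vp A r J ≤ A from inf_le_left)] at h1
      rw [e1]
      calc (qp A r J).relIndex (vp A r J) ≤ (CA ⊓ vp A r J).relIndex (vp A r J) :=
            relIndex_le_of_le_left hfix Subgroup.relIndex_ne_zero
        _ = CA.relIndex (vp A r J) := inf_relIndex_right _ _
        _ ≤ CA.relIndex A := relIndex_le_of_le_right inf_le_left Subgroup.relIndex_ne_zero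
    have h2 : CA.relIndex A < (qp A b L).relIndex A := by
      have hle' : qp A b L ≤ CA := fun w hw =>
        ⟨hw.1, mem_centralizer_singleton_iff.2 (h.loc.qp_comm ht hw).eq.symm⟩
      have hm := relIndex_mul_relIndex (qp A b L) CA A hle' inf_le_left
      have hne : (qp A b L).relIndex CA ≠ 1 := by
        rw [Ne, relIndex_eq_one]
        exact fun hle2 => hvne (hle2 ⟨hv.1, mem_centralizer_singleton_iff.2 htv.eq.symm⟩)
      rw [← hm]
      refine lt_mul_left (Nat.pos_of_ne_zero Subgroup.relIndex_ne_zero) ?_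
      have := Subgroup.relIndex_ne_zero (H := qp A b L) (K := CA)
      omega
    omega

/-- Every met component is untwisted. -/
theorem untwisted (hcfg : Cfg S A) (htf : H77.WA.TypeFacts.{u}) (hsf : H77.WA.SingerFacts.{u})
    (hbar : H77.WA.BarStruct.{u}) (hconj : H77.WA.ConjFacts.{u}) (hlink : H77.WA.LinkFacts.{u})
    {b : G} (hb : b ∈ A) (hb1 : b ≠ 1) {L : Subgroup (Bb b)} (hL : CMet A b L) :
    Untwisted A b L := by
  intro t ht ht2
  obtain ⟨htpre, htN⟩ := ht
  have hA := hcfg.elem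
  obtain ⟨R, hPR, h⟩ := exists_loc hcfg hbar hb hb1 hL (sup_zpowers_two hA htN ht2)
    (sup_le (le_cent hA hb) (zpowers_le.2 (pre_le b L htpre))) le_sup_left
  have htR : t ∈ R ⊓ pre b L := ⟨hPR (mem_sup_right (mem_zpowers t)), htpre⟩
  refine h.mem_centralizer_A htR fun v hv => h.comm_of_im htR hv ?_
  obtain ⟨T, hT⟩ := h.syl
  by_cases hab : AbSyl (Quot L)
  · have hAT : H77.WA.AType (Quot L) := (h.str.type L h.met).resolve_right fun hN => hN.2.2.2 hab
    have hsq := (htf.ab (Quot L) hAT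
      (T.mapSurjective (QuotientGroup.mk'_surjective (center ↥L)))).piece.sq
    have hZ := h.str.center_bot L h.met hab
    have hle : (coreImage b A).subgroupOf L ≤ (T : Subgroup L) := fun y hy => by
      obtain ⟨w, hw, rfl⟩ := h.mem_A_L.1 hy
      exact h.im_mem hT (h.vp_le hw)
    have h1 : h.im t htR.2 * h.im t htR.2 ∈ center ↥L := (QuotientGroup.eq_one_iff _).1
      (by
        have := hsq (QuotientGroup.mk' (center ↥L) (h.im t htR.2)) (by
          rw [Sylow.coe_mapSurjective]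
          exact mem_map_of_mem _ (h.im_mem hT htR))
        rw [← map_mul] at this
        exact this)
    have h2 := (h.str.image L h.met T hle _ (h.im_mem hT htR)).1 h1
    rw [hZ, sup_bot_eq] at h2
    obtain ⟨w, hw, e⟩ := h.mem_A_L.1 h2
    rw [← e]
    show h.im w hw.2 * h.im v hv.2 = h.im v hv.2 * h.im w hw.2
    rw [← h.im_mul hw.2 hv.2, ← h.im_mul hv.2 hw.2]
    simp only [(commute_of_mem hA hw.1 hv.1).eq]
  · obtain ⟨T, V, hN⟩ := exists_nloc htf h hab
    have hle : (T : Subgroup L) ≤ hN.CT := by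
      rcases hN.cases_twist with h1 | ⟨h1, h2⟩
      · exact h1
      · exact not_twisted hcfg htf hsf hbar hconj hlink hN h1 h2 hab
    exact (hN.comm_of_CT (hle (hN.im_mem htR)) hv).symm

/-- A non-abelian met component is simple. -/
theorem center_eq_bot (hcfg : Cfg S A) (htf : H77.WA.TypeFacts.{u})
    (hsf : H77.WA.SingerFacts.{u}) (hbar : H77.WA.BarStruct.{u}) (hconj : H77.WA.ConjFacts.{u})
    (hlink : H77.WA.LinkFacts.{u}) {b : G} (hb : b ∈ A) (hb1 : b ≠ 1) {L : Subgroup (Bb b)}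
    (hL : CMet A b L) : center ↥L = ⊥ := by
  have hA := hcfg.elem
  have hA2 : IsPGroup 2 A := fun a => ⟨1, Subtype.ext (by simpa using hA.2 a.1 a.2)⟩
  obtain ⟨R, -, h⟩ := exists_loc hcfg hbar hb hb1 hL hA2 (le_cent hA hb) le_rfl
  by_cases hab : AbSyl (Quot L)
  · exact h.str.center_bot L h.met hab
  obtain ⟨T, V, hN⟩ := exists_nloc htf h hab
  have hle : (coreImage b A).subgroupOf L ≤ (T : Subgroup L) := fun y hy => by
    obtain ⟨w, hw, rfl⟩ := h.mem_A_L.1 hy
    exact hN.im_mem (h.vp_le hw)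
  refine htf.cover ↥L h.met.1.2 h.oddCore_L ((h.str.type L h.met).resolve_left
    fun hA' => hab hA'.2.2.1) T _ hle ⟨⟨⟨fun x y => ?_⟩⟩, fun x hx => ?_⟩ ?_
    (fun x hx hxx => (h.str.image L h.met T hle x hx).1 hxx)
  · obtain ⟨v, hv, ev⟩ := h.mem_A_L.1 x.2
    obtain ⟨w, hw, ew⟩ := h.mem_A_L.1 y.2
    apply Subtype.ext
    show x.1 * y.1 = y.1 * x.1
    rw [← ev, ← ew, ← h.im_mul hv.2 hw.2, ← h.im_mul hw.2 hv.2]
    simp only [(commute_of_mem hA hv.1 hw.1).eq]
  · obtain ⟨v, hv, rfl⟩ := h.mem_A_L.1 hx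
    rw [pow_two, ← h.im_mul hv.2 hv.2]
    apply Subtype.ext
    have hvv : v * v = 1 := by rw [← pow_two]; exact hA.2 v hv.1
    show coreProj b ⟨v * v, _⟩ = 1
    simp only [hvv]
    exact map_one _
  · intro x hx
    obtain ⟨t, ht, rfl⟩ := h.exists_lift hN.T_eq hx
    obtain ⟨k, hk⟩ := h.two ⟨t, ht.1⟩
    have htc := untwisted hcfg htf hsf hbar hconj hlink hb hb1 hL t
      ⟨ht.2, h.normA ht.1⟩ ⟨k, by simpa using congrArg Subtype.val hk⟩
    refine mem_centralizer_iff.2 fun y hy => ?_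
    obtain ⟨v, hv, rfl⟩ := h.mem_A_L.1 hy
    show h.im v hv.2 * h.im t ht.2 = h.im t ht.2 * h.im v hv.2
    rw [← h.im_mul hv.2 ht.2, ← h.im_mul ht.2 hv.2]
    simp only [mem_centralizer_iff.1 htc v hv.1]

/-- **The twist step.** -/
theorem twistStep (htf : H77.WA.TypeFacts.{u}) (hsf : H77.WA.SingerFacts.{u})
    (hbar : H77.WA.BarStruct.{u}) (hconj : H77.WA.ConjFacts.{u}) (hlink : H77.WA.LinkFacts.{u}) :
    H77.WA.TwistStep.{u} := by
  intro G _ _ S A hcfg b hb hb1 L hL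
  have hZ := center_eq_bot hcfg htf hsf hbar hconj hlink hb hb1 hL
  obtain ⟨R, -, h⟩ := exists_loc hcfg hbar hb hb1 hL
    (show IsPGroup 2 A from fun a => ⟨1, Subtype.ext (by simpa using hcfg.elem.2 a.1 a.2)⟩)
    (le_cent hcfg.elem hb) le_rfl
  exact ⟨hZ, untwisted hcfg htf hsf hbar hconj hlink hb hb1 hL, h.vp_sup_qp, h.vp_inf_qp hZ⟩

end Cfsg.Agent.H18.WA
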